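import Groth.Agent.PrinParts.Basic
import Mathlib.Algebra.MvPolynomial.Basic
import Mathlib.RingTheory.MvPolynomial.Homogeneous
import Mathlib.LinearAlgebra.Finsupp.LinearCombination

/-!
# Symmetric powers and the canonical maps to the graded pieces of `P^n`
-/

universe u v w
open scoped TensorProduct
set_option linter.unusedSectionVars false

namespace Groth.Agent.PrinParts.Sym
open PP16

section general

variable {R : Type u} [CommRing R] {ι : Type u} [Fintype ι] {M : Type v} [AddCommGroup M] [Module R M]
  {N : Type w} [AddCommGroup N] [Module R N]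

/-- Universal property of symmetric powers. -/
noncomputable def symLift (f : MultilinearMap R (fun _ : ι => M) N)
    (hf : ∀ (e : Equiv.Perm ι) (v : ι → M), f (fun i => v (e i)) = f v) :
    SymmetricPower R ι M →ₗ[R] N where
  toFun := AddCon.lift _ (PiTensorProduct.lift f).toAddMonoidHom (AddCon.addConGen_le.2 (by
    rintro x y ⟨e, v⟩
    refine (AddCon.ker_rel _).2 ?_
    simp only [LinearMap.toAddMonoidHom_coe]
    rw [PiTensorProduct.lift.tprod, PiTensorProduct.lift.tprod]
    exact (hf e v).symm))
  map_add' := map_add _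
  map_smul' r x := AddCon.induction_on x fun x => (PiTensorProduct.lift f).map_smul r x

theorem symLift_tprod (f : MultilinearMap R (fun _ : ι => M) N)
    (hf : ∀ (e : Equiv.Perm ι) (v : ι → M), f (fun i => v (e i)) = f v) (v : ι → M) :
    symLift f hf (SymmetricPower.tprod R v) = f v :=
  PiTensorProduct.lift.tprod (φ := f) v

/-- Products of generators span the symmetric power. -/
theorem span_tprod_of_span {κ : Type*} (g : κ → M) (hg : Submodule.span R (Set.range g) = ⊤) :
    Submodule.span R (Set.range fun v : ι → κ => SymmetricPower.tprod R (fun i => g (v i))) = ⊤ := by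
  classical
  rw [eq_top_iff, ← SymmetricPower.span_tprod_eq_top R ι M, Submodule.span_le]
  rintro _ ⟨v, rfl⟩
  have hv : ∀ i, ∃ c : κ →₀ R, Finsupp.linearCombination R g c = v i := fun i =>
    (Finsupp.mem_span_range_iff_exists_finsupp).1 (hg ▸ Submodule.mem_top) |>.imp fun c hc => by
      rw [Finsupp.linearCombination_apply]; exact hc
  choose c hc using hv
  have : v = fun i => ∑ k ∈ (c i).support, c i k • g k := funext fun i => by
    rw [← hc i, Finsupp.linearCombination_apply]; rfl
  rw [SetLike.mem_coe, this, MultilinearMap.map_sum_finset]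
  refine sum_mem fun w _ => ?_
  rw [MultilinearMap.map_smul_univ]
  exact Submodule.smul_mem _ _ (Submodule.subset_span ⟨w, rfl⟩)

theorem hom_ext_of_span {κ : Type*} (g : κ → M) (hg : Submodule.span R (Set.range g) = ⊤)
    {φ ψ : SymmetricPower R ι M →ₗ[R] N}
    (h : ∀ v : ι → κ, φ (SymmetricPower.tprod R fun i => g (v i)) =
      ψ (SymmetricPower.tprod R fun i => g (v i))) : φ = ψ :=
  LinearMap.ext_on_range (span_tprod_of_span g hg) h

variable {σ : Type*}

/-- The linear form `σ →₀ R → R[X]`. -/
noncomputable def lin : (σ →₀ R) →ₗ[R] MvPolynomial σ R :=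
  Finsupp.linearCombination R MvPolynomial.X

theorem lin_isHomogeneous (x : σ →₀ R) : (lin x : MvPolynomial σ R).IsHomogeneous 1 := by
  rw [lin, Finsupp.linearCombination_apply]
  refine MvPolynomial.IsHomogeneous.sum _ _ _ fun i _ => ?_
  show (x i • MvPolynomial.X i : MvPolynomial σ R).IsHomogeneous 1
  rw [MvPolynomial.smul_eq_C_mul]
  exact (MvPolynomial.isHomogeneous_X R i).C_mul _

/-- The map from the symmetric power of `M` to polynomials given by `f : M → R^(σ)`. -/
noncomputable def symPoly (f : M →ₗ[R] (σ →₀ R)) : SymmetricPower R ι M →ₗ[R] MvPolynomial σ R :=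
  symLift ((MultilinearMap.mkPiAlgebra R ι (MvPolynomial σ R)).compLinearMap fun _ => lin ∘ₗ f)
    fun e v => by
      simp only [MultilinearMap.compLinearMap_apply, MultilinearMap.mkPiAlgebra_apply]
      exact Equiv.prod_comp e fun i => (lin ∘ₗ f) (v i)

theorem symPoly_tprod (f : M →ₗ[R] (σ →₀ R)) (v : ι → M) :
    symPoly f (SymmetricPower.tprod R v) = ∏ i, lin (f (v i)) :=
  symLift_tprod _ _ v

theorem symPoly_isHomogeneous (f : M →ₗ[R] (σ →₀ R)) (x : SymmetricPower R ι M) :
    (symPoly f x).IsHomogeneous (Fintype.card ι) := by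
  have hle : (⊤ : Submodule R (SymmetricPower R ι M)) ≤
      (MvPolynomial.homogeneousSubmodule σ R (Fintype.card ι)).comap (symPoly f) := by
    rw [← SymmetricPower.span_tprod_eq_top R ι M, Submodule.span_le]
    rintro _ ⟨v, rfl⟩
    rw [SetLike.mem_coe, Submodule.mem_comap, symPoly_tprod, MvPolynomial.mem_homogeneousSubmodule]
    simpa using MvPolynomial.IsHomogeneous.prod Finset.univ (fun i => lin (f (v i))) (fun _ => 1)
      fun i _ => lin_isHomogeneous _
  exact hle (Submodule.mem_top (x := x))

/-- For a direct summand of a free module the map to polynomials is injective. -/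
theorem symPoly_injective (f : M →ₗ[R] (σ →₀ R)) (r : (σ →₀ R) →ₗ[R] M) (hrf : ∀ x, r (f x) = x) :
    Function.Injective (symPoly (ι := ι) f) := by
  classical
  -- read a homogeneous polynomial back through symmetric monomials
  let pick : (σ →₀ ℕ) → Option (ι → σ) := fun d =>
    if h : ∃ v : ι → σ, ∑ i, Finsupp.single (v i) 1 = d then some h.choose else none
  let back : MvPolynomial σ R →ₗ[R] SymmetricPower R ι M :=
    (MvPolynomial.basisMonomials σ R).constr R fun d => match pick d with
      | some v => SymmetricPower.tprod R fun i => r (Finsupp.single (v i) 1)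
      | none => 0
  have key : ∀ v : ι → σ, back (∏ i, MvPolynomial.X (v i)) =
      SymmetricPower.tprod R fun i => r (Finsupp.single (v i) 1) := by
    intro v
    have hp : (∏ i, MvPolynomial.X (v i) : MvPolynomial σ R) =
        MvPolynomial.monomial (∑ i, Finsupp.single (v i) 1) 1 :=
      (MvPolynomial.monomial_sum_one Finset.univ fun i => Finsupp.single (v i) 1).symm
    have hex : ∃ w : ι → σ, ∑ i, Finsupp.single (w i) 1 = ∑ i, Finsupp.single (v i) 1 := ⟨v, rfl⟩
    have hb : back (∏ i, MvPolynomial.X (v i)) =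
        SymmetricPower.tprod R fun i => r (Finsupp.single (hex.choose i) 1) := by
      rw [hp]
      rw [show MvPolynomial.monomial (∑ i, Finsupp.single (v i) 1) (1 : R) =
        MvPolynomial.basisMonomials σ R (∑ i, Finsupp.single (v i) 1) from
          (congrFun (MvPolynomial.coe_basisMonomials σ R) _).symm, Module.Basis.constr_basis,
        show pick _ = some hex.choose from dif_pos hex]
    rw [hb]
    -- two families with the same multiplicities differ by a permutation
    set w := hex.choose
    have hcount : ∀ s, Fintype.card {i // w i = s} = Fintype.card {i // v i = s} := fun s => by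
      have := congrArg (fun d : σ →₀ ℕ => d s) hex.choose_spec
      simpa [Finsupp.finsetSum_apply, Finsupp.single_apply, Fintype.card_subtype, Finset.sum_boole] using this
    let π : Equiv.Perm ι := (Equiv.sigmaFiberEquiv w).symm.trans
      ((Equiv.sigmaCongrRight fun s => Fintype.equivOfCardEq (hcount s)).trans (Equiv.sigmaFiberEquiv v))
    have hπ : ∀ i, v (π i) = w i := fun i =>
      (Fintype.equivOfCardEq (hcount (w i)) ⟨i, rfl⟩).2
    simp only [← hπ]
    exact SymmetricPower.tprod_equiv π fun i => r (Finsupp.single (v i) 1)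
  have hleft : ∀ x, back (symPoly f x) = x := by
    refine LinearMap.congr_fun (f := back ∘ₗ symPoly f) (g := LinearMap.id) ?_
    refine LinearMap.ext_on_range (SymmetricPower.span_tprod_eq_top R ι M) fun v => ?_
    rw [LinearMap.comp_apply, symPoly_tprod, LinearMap.id_apply]
    have hv : ∀ i, v i = ∑ s ∈ (f (v i)).support, f (v i) s • r (Finsupp.single s 1) := fun i => by
      conv_lhs => rw [← hrf (v i), ← Finsupp.sum_single (f (v i))]
      rw [Finsupp.sum, map_sum]
      refine Finset.sum_congr rfl fun s _ => ?_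
      rw [← map_smul, Finsupp.smul_single_one]
    conv_rhs => rw [show v = fun i => ∑ s ∈ (f (v i)).support, f (v i) s • r (Finsupp.single s 1) from funext hv,
      MultilinearMap.map_sum_finset]
    simp only [lin, Finsupp.linearCombination_apply, Finsupp.sum]
    rw [Finset.prod_univ_sum, map_sum]
    refine Finset.sum_congr rfl fun w _ => ?_
    rw [MultilinearMap.map_smul_univ, Finset.prod_smul, map_smul, key]
  exact Function.LeftInverse.injective hleft

end general

section graded

variable (A B : Type u) [CommRing A] [CommRing B] [Algebra A B]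

local notation "𝐈" => KaehlerDifferential.ideal A B

/-- The class in `I^n/I^(n+1)` of an element of `I^n`. -/
noncomputable def cls (n : ℕ) (x : B ⊗[A] B) (hx : x ∈ 𝐈 ^ n) : grI A B n :=
  Submodule.Quotient.mk (⟨x, hx⟩ : ↥((𝐈 ^ n).restrictScalars B))

theorem cls_eq {n : ℕ} {x y : B ⊗[A] B} {hx : x ∈ 𝐈 ^ n} {hy : y ∈ 𝐈 ^ n} :
    cls A B n x hx = cls A B n y hy ↔ x - y ∈ 𝐈 ^ (n + 1) :=
  Submodule.Quotient.eq _

theorem cls_add {n : ℕ} {x y : B ⊗[A] B} {hx : x ∈ 𝐈 ^ n} {hy : y ∈ 𝐈 ^ n} :
    cls A B n x hx + cls A B n y hy = cls A B n (x + y) (add_mem hx hy) := rfl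

theorem cls_smul {n : ℕ} {x : B ⊗[A] B} {hx : x ∈ 𝐈 ^ n} (c : B) :
    c • cls A B n x hx = cls A B n (algebraMap B (B ⊗[A] B) c * x) (Ideal.mul_mem_left _ _ hx) := by
  refine congrArg Submodule.Quotient.mk (Subtype.ext ?_)
  exact Algebra.smul_def c x

theorem cls_surjective {n : ℕ} (y : grI A B n) : ∃ x hx, cls A B n x hx = y := by
  obtain ⟨⟨x, hx⟩, rfl⟩ := Submodule.Quotient.mk_surjective _ y
  exact ⟨x, hx, rfl⟩

/-- A lift of a differential to the ideal. -/
noncomputable def lift1 (w : KaehlerDifferential A B) : 𝐈 :=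
  Function.surjInv (KaehlerDifferential.fromIdeal_surjective A B) w

theorem fromIdeal_lift1 (w : KaehlerDifferential A B) : KaehlerDifferential.fromIdeal A B (lift1 A B w) = w :=
  Function.surjInv_eq _ _

theorem sub_mem_sq {x y : 𝐈} (h : KaehlerDifferential.fromIdeal A B x = KaehlerDifferential.fromIdeal A B y) :
    (x : B ⊗[A] B) - y ∈ 𝐈 ^ 2 :=
  (Ideal.toCotangent_eq _).1 h

variable {ι : Type u} [Fintype ι]

theorem prod_sub_mem (x y : ι → B ⊗[A] B) (hx : ∀ i, x i ∈ 𝐈) (hy : ∀ i, y i ∈ 𝐈)
    (h : ∀ i, x i - y i ∈ 𝐈 ^ 2) (s : Finset ι) :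
    ∏ i ∈ s, x i - ∏ i ∈ s, y i ∈ 𝐈 ^ (s.card + 1) := by
  classical
  induction s using Finset.induction_on with
  | empty => simp
  | insert a s ha ih =>
    rw [Finset.prod_insert ha, Finset.prod_insert ha, Finset.card_insert_of_notMem ha,
      show x a * ∏ i ∈ s, x i - y a * ∏ i ∈ s, y i =
        (x a - y a) * ∏ i ∈ s, x i + y a * (∏ i ∈ s, x i - ∏ i ∈ s, y i) by ring]
    refine add_mem ?_ ?_
    · have := Ideal.mul_mem_mul (h a) (prod_mem_pow _ s x fun i _ => hx i)
      rwa [← pow_add, show 2 + s.card = s.card + 1 + 1 by omega] at this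
    · rw [pow_succ' _ (s.card + 1)]
      exact Ideal.mul_mem_mul (hy a) ih

/-- Product of lifts. -/
noncomputable def prodCls (w : ι → KaehlerDifferential A B) : grI A B (Fintype.card ι) :=
  cls A B _ (∏ i, (lift1 A B (w i) : B ⊗[A] B))
    (by simpa using prod_mem_pow 𝐈 Finset.univ (fun i => (lift1 A B (w i) : B ⊗[A] B)) fun i _ => (lift1 A B (w i)).2)

theorem prodCls_eq (w : ι → KaehlerDifferential A B) (x : ι → 𝐈)
    (h : ∀ i, KaehlerDifferential.fromIdeal A B (x i) = w i) (hx) :
    prodCls A B w = cls A B _ (∏ i, (x i : B ⊗[A] B)) hx := by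
  refine (cls_eq A B).2 ?_
  exact prod_sub_mem A B (fun i => (lift1 A B (w i) : B ⊗[A] B)) (fun i => (x i : B ⊗[A] B))
    (fun i => (lift1 A B (w i)).2) (fun i => (x i).2)
    (fun i => sub_mem_sq A B ((fromIdeal_lift1 A B _).trans (h i).symm)) Finset.univ

/-- The multilinear map of products. -/
noncomputable def prodML : MultilinearMap B (fun _ : ι => KaehlerDifferential A B) (grI A B (Fintype.card ι)) where
  toFun := prodCls A B
  map_update_add' {dec} w i p q := by
    classical
    obtain rfl : dec = Classical.decEq ι := Subsingleton.elim _ _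
    let x := fun j => lift1 A B (w j)
    have hm : ∀ a : 𝐈, ∏ j, ((Function.update x i a) j : B ⊗[A] B) ∈ 𝐈 ^ Fintype.card ι := fun a => by
      simpa using prod_mem_pow 𝐈 Finset.univ (fun j => ((Function.update x i a) j : B ⊗[A] B))
        fun j _ => (Function.update x i a j).2
    have he : ∀ (a : 𝐈) (c : KaehlerDifferential A B), KaehlerDifferential.fromIdeal A B a = c →
        prodCls A B (Function.update w i c) = cls A B _ _ (hm a) := fun a c hc =>
      prodCls_eq A B _ _ (fun j => by
        by_cases hj : j = i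
        · subst hj; simp [hc]
        · simp [Function.update_of_ne hj, x, fromIdeal_lift1]) _
    rw [he (lift1 A B p + lift1 A B q) (p + q) (by rw [map_add, fromIdeal_lift1, fromIdeal_lift1]),
      he _ p (fromIdeal_lift1 A B p), he _ q (fromIdeal_lift1 A B q), cls_add]
    congr 1
    have hu : ∀ a : 𝐈, (fun j => ((Function.update x i a) j : B ⊗[A] B)) =
        Function.update (fun j => (x j : B ⊗[A] B)) i (a : B ⊗[A] B) := fun a => funext fun j => by
      by_cases hj : j = i
      · subst hj; simp
      · simp [Function.update_of_ne hj]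
    simp only [hu, Finset.prod_update_of_mem (Finset.mem_univ i), Submodule.coe_add, add_mul]
  map_update_smul' {dec} w i c p := by
    classical
    obtain rfl : dec = Classical.decEq ι := Subsingleton.elim _ _
    let x := fun j => lift1 A B (w j)
    have hm : ∀ a : 𝐈, ∏ j, ((Function.update x i a) j : B ⊗[A] B) ∈ 𝐈 ^ Fintype.card ι := fun a => by
      simpa using prod_mem_pow 𝐈 Finset.univ (fun j => ((Function.update x i a) j : B ⊗[A] B))
        fun j _ => (Function.update x i a j).2
    have he : ∀ (a : 𝐈) (d : KaehlerDifferential A B), KaehlerDifferential.fromIdeal A B a = d →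
        prodCls A B (Function.update w i d) = cls A B _ _ (hm a) := fun a d hd =>
      prodCls_eq A B _ _ (fun j => by
        by_cases hj : j = i
        · subst hj; simp [hd]
        · simp [Function.update_of_ne hj, x, fromIdeal_lift1]) _
    rw [he ((algebraMap B (B ⊗[A] B) c) • lift1 A B p) (c • p) (by
        rw [map_smul, fromIdeal_lift1, algebraMap_smul]),
      he _ p (fromIdeal_lift1 A B p), cls_smul]
    congr 1
    have hu : ∀ a : 𝐈, (fun j => ((Function.update x i a) j : B ⊗[A] B)) =
        Function.update (fun j => (x j : B ⊗[A] B)) i (a : B ⊗[A] B) := fun a => funext fun j => by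
      by_cases hj : j = i
      · subst hj; simp
      · simp [Function.update_of_ne hj]
    simp only [hu, Finset.prod_update_of_mem (Finset.mem_univ i), Submodule.coe_smul, smul_eq_mul, mul_assoc]

/-- The canonical map `Sym^n Ω → I^n/I^(n+1)`. -/
noncomputable def phi : SymmetricPower B ι (KaehlerDifferential A B) →ₗ[B] grI A B (Fintype.card ι) :=
  symLift (prodML A B) fun e w => by
    show prodCls A B _ = prodCls A B _
    refine (cls_eq A B).2 ?_
    rw [Equiv.prod_comp e fun i => (lift1 A B (w i) : B ⊗[A] B), sub_self]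
    exact zero_mem _

theorem phi_tprod_D (b : ι → B) :
    phi A B (SymmetricPower.tprod B fun i => KaehlerDifferential.D A B (b i)) = zetaProd A B b :=
  (symLift_tprod _ _ _).trans (prodCls_eq A B _
    (fun i => ⟨_, KaehlerDifferential.one_smul_sub_smul_one_mem_ideal A (b i)⟩) (fun _ => rfl) _)

theorem span_D_eq_top : Submodule.span B (Set.range (KaehlerDifferential.D A B)) = ⊤ :=
  KaehlerDifferential.span_range_derivation A B

/-- Any map with the defining values is the canonical one. -/
theorem eq_phi {φ : SymmetricPower B ι (KaehlerDifferential A B) →ₗ[B] grI A B (Fintype.card ι)}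
    (h : ∀ b : ι → B, φ (SymmetricPower.tprod B fun i => KaehlerDifferential.D A B (b i)) = zetaProd A B b) :
    φ = phi A B :=
  hom_ext_of_span _ (span_D_eq_top A B) fun b => (h b).trans (phi_tprod_D A B b).symm

theorem mem_span_prod (n : ℕ) {x : B ⊗[A] B} (hx : x ∈ 𝐈 ^ n) :
    x ∈ Submodule.span B (Set.range fun b : Fin n → B =>
      ∏ i, ((1 : B) ⊗ₜ[A] b i - b i ⊗ₜ[A] (1 : B))) ⊔ (𝐈 ^ (n + 1)).restrictScalars B := by
  induction n generalizing x with
  | zero =>
    rw [zero_add, pow_one,
      show x = algebraMap B (B ⊗[A] B) (Algebra.TensorProduct.lmul' A (S := B) x) +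
        (x - algebraMap B (B ⊗[A] B) (Algebra.TensorProduct.lmul' A (S := B) x)) by ring]
    refine Submodule.add_mem_sup (Submodule.mem_span_range_iff_exists_fun B |>.2 ?_) ?_
    · exact ⟨fun _ => Algebra.TensorProduct.lmul' A (S := B) x, by simp [Algebra.smul_def]⟩
    · show Algebra.TensorProduct.lmul' A (S := B) _ = 0
      rw [map_sub]; simp [Algebra.TensorProduct.algebraMap_apply]
  | succ n ih =>
    rw [pow_succ'] at hx
    refine Submodule.mul_induction_on hx (fun y hy z hz => ?_) fun y z hy hz => add_mem hy hz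
    have hy' : y ∈ Submodule.span B (Set.range fun s : B => (1 : B) ⊗ₜ[A] s - s ⊗ₜ[A] (1 : B)) := by
      rw [KaehlerDifferential.submodule_span_range_eq_ideal]; exact hy
    obtain ⟨p, hp, q, hq, rfl⟩ := Submodule.mem_sup.1 (ih hz)
    rw [mul_add]
    refine add_mem ?_ (Submodule.mem_sup_right ?_)
    · refine Submodule.mem_sup_left ?_
      clear hy
      have := Submodule.mul_mem_mul hy' hp
      rw [Submodule.span_mul_span] at this
      refine Submodule.span_mono ?_ this
      rintro _ ⟨_, ⟨s, rfl⟩, _, ⟨b, rfl⟩, rfl⟩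
      exact ⟨Fin.cons s b, by simp [Fin.prod_univ_succ]⟩
    · show y * q ∈ 𝐈 ^ (n + 1 + 1)
      rw [pow_succ' _ (n + 1)]
      exact Ideal.mul_mem_mul hy hq

theorem phi_surjective : Function.Surjective (phi A B (ι := ι)) := by
  intro y
  obtain ⟨x, hx, rfl⟩ := cls_surjective A B y
  classical
  let e := Fintype.equivFin ι
  obtain ⟨p, hp, q, hq, rfl⟩ := Submodule.mem_sup.1 (mem_span_prod A B _ hx)
  have hp' : ∀ p ∈ Submodule.span B (Set.range fun b : Fin (Fintype.card ι) → B =>
      ∏ i, ((1 : B) ⊗ₜ[A] b i - b i ⊗ₜ[A] (1 : B))), ∀ h,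
        cls A B (Fintype.card ι) p h ∈ LinearMap.range (phi A B (ι := ι)) := by
    intro p hp
    have hI : ∀ b : Fin (Fintype.card ι) → B,
        ∏ i, ((1 : B) ⊗ₜ[A] b i - b i ⊗ₜ[A] (1 : B)) ∈ 𝐈 ^ Fintype.card ι := fun b => by
      have h1 := Ideal.prod_mem_prod (ι := Fin (Fintype.card ι)) (s := Finset.univ)
        (I := fun _ => 𝐈) fun i _ => KaehlerDifferential.one_smul_sub_smul_one_mem_ideal A (b i)
      simpa using h1
    induction hp using Submodule.span_induction with
    | mem p hp =>
      intro h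
      obtain ⟨b, rfl⟩ := hp
      refine ⟨SymmetricPower.tprod B fun i => KaehlerDifferential.D A B (b (e i)), ?_⟩
      rw [phi_tprod_D]
      refine (cls_eq A B).2 ?_
      rw [Equiv.prod_comp e fun i => (1 : B) ⊗ₜ[A] b i - b i ⊗ₜ[A] (1 : B), sub_self]
      exact zero_mem _
    | zero => intro h; exact ⟨0, (map_zero _).trans ((Submodule.Quotient.mk_eq_zero _).2 (zero_mem _)).symm⟩
    | add p q hp hq ihp ihq =>
      intro h
      have hP : ∀ p ∈ Submodule.span B (Set.range fun b : Fin (Fintype.card ι) → B =>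
          ∏ i, ((1 : B) ⊗ₜ[A] b i - b i ⊗ₜ[A] (1 : B))), p ∈ 𝐈 ^ Fintype.card ι := fun p hp =>
        (Submodule.span_le (p := (𝐈 ^ Fintype.card ι).restrictScalars B)).2
          (by rintro _ ⟨b, rfl⟩; exact hI b) hp
      rw [show cls A B _ (p + q) h = cls A B _ p (hP p hp) + cls A B _ q (hP q hq) from rfl]
      exact add_mem (ihp _) (ihq _)
    | smul c p hp ihp =>
      intro h
      have hP : p ∈ 𝐈 ^ Fintype.card ι :=
        (Submodule.span_le (p := (𝐈 ^ Fintype.card ι).restrictScalars B)).2
          (by rintro _ ⟨b, rfl⟩; exact hI b) hp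
      rw [show cls A B _ (c • p) h = c • cls A B _ p hP from rfl]
      exact Submodule.smul_mem _ _ (ihp _)
  have hpI : p ∈ 𝐈 ^ Fintype.card ι := by
    have := sub_mem hx (Ideal.pow_le_pow_right (Nat.le_succ (Fintype.card ι)) hq)
    rwa [add_sub_cancel_right] at this
  obtain ⟨z, hz⟩ := hp' p hp hpI
  exact ⟨z, hz.trans ((cls_eq A B).2 (by rw [sub_add_cancel_left]; exact neg_mem hq))⟩

/-- Differential smoothness from a linear map detecting products. -/
theorem bijective_phi_of_detect {σ : Type*} (f : KaehlerDifferential A B →ₗ[B] (σ →₀ B))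
    (r : (σ →₀ B) →ₗ[B] KaehlerDifferential A B) (hrf : ∀ x, r (f x) = x)
    (G : grI A B (Fintype.card ι) →ₗ[B] MvPolynomial σ B) {κ : Type*} (z : κ → B)
    (hz : Submodule.span B (Set.range fun k => KaehlerDifferential.D A B (z k)) = ⊤)
    (hG : ∀ v : ι → κ, G (zetaProd A B fun i => z (v i)) =
      ∏ i, lin (f (KaehlerDifferential.D A B (z (v i))))) :
    Function.Bijective (phi A B (ι := ι)) := by
  refine ⟨?_, phi_surjective A B⟩
  have h : G ∘ₗ phi A B (ι := ι) = symPoly f := hom_ext_of_span _ hz fun v => by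
    rw [LinearMap.comp_apply, phi_tprod_D A B fun i => z (v i), hG, symPoly_tprod]
  have hi := symPoly_injective (ι := ι) f r hrf
  rw [← h, LinearMap.coe_comp] at hi
  exact hi.of_comp

theorem isDiffSmooth_iff :
    IsDiffSmooth A B ↔ Module.Projective B (KaehlerDifferential A B) ∧
      ∀ (ι : Type u) [Fintype ι], Function.Bijective (phi A B (ι := ι)) := by
  refine ⟨fun ⟨hP, h⟩ => ⟨hP, fun ι _ => ?_⟩, fun ⟨hP, h⟩ => ⟨hP, fun ι _ => ⟨phi A B, phi_tprod_D A B, h ι⟩⟩⟩
  obtain ⟨φ, hφ, hbij⟩ := h ι
  rwa [← eq_phi A B hφ]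

end graded

end Groth.Agent.PrinParts.Sym
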