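import Groth.Prelude.Def_PP16
import Mathlib.RingTheory.Ideal.Quotient.Operations
import Mathlib.RingTheory.IsTensorProduct
import Mathlib.LinearAlgebra.TensorProduct.RightExactness
import Mathlib.RingTheory.Nilpotent.Basic

/-!
Basic API for `PP16.P n A B`: generation by `algebraMap` and `dn`, the augmentation,
the universal map `desc`, and kernels of functoriality maps.
-/

universe u v
open scoped TensorProduct
set_option linter.unusedSectionVars false

namespace Groth.Agent.PrinParts
open PP16

section basic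

variable (n : ℕ) (A B : Type u) [CommRing A] [CommRing B] [Algebra A B]

theorem ideal_le {J : Ideal (B ⊗[A] B)} (h : ∀ b : B, (1 : B) ⊗ₜ[A] b - b ⊗ₜ[A] (1 : B) ∈ J) :
    KaehlerDifferential.ideal A B ≤ J := by
  rw [← KaehlerDifferential.span_range_eq_ideal, Ideal.span_le]
  rintro _ ⟨b, rfl⟩
  exact h b

theorem mk_tmul (a b : B) :
    (Ideal.Quotient.mk _ (a ⊗ₜ[A] b) : P n A B) = algebraMap B (P n A B) a * dn n A B b := by
  change _ = Ideal.Quotient.mk _ (a ⊗ₜ[A] (1 : B)) * Ideal.Quotient.mk _ ((1 : B) ⊗ₜ[A] b)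
  rw [← map_mul, Algebra.TensorProduct.tmul_mul_tmul, mul_one, one_mul]

theorem induction_on {motive : P n A B → Prop} (x : P n A B)
    (mul : ∀ a b, motive (algebraMap B (P n A B) a * dn n A B b))
    (add : ∀ x y, motive x → motive y → motive (x + y)) : motive x := by
  obtain ⟨x, rfl⟩ := Ideal.Quotient.mk_surjective x
  induction x using TensorProduct.induction_on with
  | zero => simpa using mul 0 0
  | tmul a b => rw [mk_tmul]; exact mul a b
  | add x y hx hy => rw [map_add]; exact add _ _ hx hy

variable {n A B}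

theorem ringHom_ext {T : Type v} [CommRing T] {f g : P n A B →+* T}
    (h₁ : ∀ b, f (algebraMap B (P n A B) b) = g (algebraMap B (P n A B) b))
    (h₂ : ∀ b, f (dn n A B b) = g (dn n A B b)) : f = g := by
  refine RingHom.ext fun x => ?_
  induction x using induction_on n A B with
  | mul a b => rw [map_mul, map_mul, h₁, h₂]
  | add x y hx hy => rw [map_add, map_add, hx, hy]

variable (n A B)

theorem dn_sub_mem (b : B) : dn n A B b - algebraMap B (P n A B) b ∈ augIdeal n A B := by
  have := Ideal.mem_map_of_mem (Ideal.Quotient.mk ((KaehlerDifferential.ideal A B) ^ (n + 1)))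
    (KaehlerDifferential.one_smul_sub_smul_one_mem_ideal A b)
  rw [map_sub] at this
  exact this

theorem augIdeal_pow : augIdeal n A B ^ (n + 1) = ⊥ := by
  rw [augIdeal, ← Ideal.map_pow]
  exact Ideal.map_quotient_self _

theorem augIdeal_eq_span :
    augIdeal n A B = Ideal.span (Set.range fun b => dn n A B b - algebraMap B (P n A B) b) := by
  refine le_antisymm ?_ (Ideal.span_le.2 (by rintro _ ⟨b, rfl⟩; exact dn_sub_mem n A B b))
  rw [augIdeal, Ideal.map_le_iff_le_comap]
  refine ideal_le A B fun b => ?_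
  rw [Ideal.mem_comap, map_sub]
  exact Ideal.subset_span ⟨b, rfl⟩

/-- The augmentation `P^n → B`, as a map of algebras for the first-factor structure. -/
noncomputable def aug : P n A B →ₐ[B] B :=
  Ideal.Quotient.liftₐ _ (Algebra.TensorProduct.lmul'' A) fun _ hx =>
    Ideal.pow_le_self (Nat.succ_ne_zero n) hx

@[simp] theorem aug_mk (x : B ⊗[A] B) :
    aug n A B (Ideal.Quotient.mk _ x) = Algebra.TensorProduct.lmul'' A x := rfl

@[simp] theorem aug_dn (b : B) : aug n A B (dn n A B b) = b := by
  change Algebra.TensorProduct.lmul' A (S := B) ((1 : B) ⊗ₜ[A] b) = b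
  simp

theorem sub_aug_mem (x : P n A B) : x - algebraMap B (P n A B) (aug n A B x) ∈ augIdeal n A B := by
  induction x using induction_on n A B with
  | mul a b =>
    rw [map_mul, AlgHom.commutes, aug_dn, Algebra.algebraMap_self, RingHom.id_apply, map_mul, ← mul_sub]
    exact Ideal.mul_mem_left _ _ (dn_sub_mem n A B b)
  | add x y hx hy => rw [map_add, map_add, add_sub_add_comm]; exact add_mem hx hy

theorem aug_eq_zero {x : P n A B} (h : x ∈ augIdeal n A B) : aug n A B x = 0 := by
  rw [augIdeal_eq_span] at h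
  refine (Ideal.span_le (I := RingHom.ker (aug n A B)) |>.2 ?_) h
  rintro _ ⟨b, rfl⟩
  simp

theorem isNilpotent_of_mem {x : P n A B} (h : x ∈ augIdeal n A B) : IsNilpotent x :=
  ⟨n + 1, by simpa [augIdeal_pow] using Ideal.pow_mem_pow h (n + 1)⟩

end basic

section desc

variable {n : ℕ} {A B : Type u} [CommRing A] [CommRing B] [Algebra A B]
variable {T : Type v} [CommRing T] [Algebra A T]

theorem ideal_map_lift_le (l r : B →ₐ[A] T) (N : Ideal T) (h : ∀ b, r b - l b ∈ N) :
    (KaehlerDifferential.ideal A B).map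
      (Algebra.TensorProduct.lift l r fun _ _ => Commute.all _ _) ≤ N :=
  Ideal.map_le_iff_le_comap.2 (ideal_le A B fun b => by simpa using h b)

/-- Universal property of `P^n`: two algebra maps congruent modulo an ideal with vanishing
`(n+1)`-st power. -/
noncomputable def desc (l r : B →ₐ[A] T) (N : Ideal T) (hN : N ^ (n + 1) = ⊥)
    (h : ∀ b, r b - l b ∈ N) : P n A B →ₐ[A] T :=
  Ideal.Quotient.liftₐ _ (Algebra.TensorProduct.lift l r fun _ _ => Commute.all _ _) fun x hx => by
    have := Ideal.pow_right_mono (n := n + 1) (ideal_map_lift_le l r N h)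
    rw [← Ideal.map_pow, hN] at this
    exact (Ideal.mem_bot).1 (this (Ideal.mem_map_of_mem _ hx))

@[simp] theorem desc_algebraMap (l r : B →ₐ[A] T) (N : Ideal T) (hN : N ^ (n + 1) = ⊥)
    (h : ∀ b, r b - l b ∈ N) (b : B) : desc l r N hN h (algebraMap B (P n A B) b) = l b := by
  change Algebra.TensorProduct.lift l r (fun _ _ => Commute.all _ _) (b ⊗ₜ[A] (1 : B)) = l b
  simp

@[simp] theorem desc_dn (l r : B →ₐ[A] T) (N : Ideal T) (hN : N ^ (n + 1) = ⊥)
    (h : ∀ b, r b - l b ∈ N) (b : B) : desc l r N hN h (dn n A B b) = r b := by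
  change Algebra.TensorProduct.lift l r (fun _ _ => Commute.all _ _) ((1 : B) ⊗ₜ[A] b) = r b
  simp

end desc

section functoriality

variable (n : ℕ) (A B A' B' : Type u) [CommRing A] [CommRing B] [Algebra A B]
  [CommRing A'] [CommRing B'] [Algebra A' B'] [Algebra A A'] [Algebra B B'] [Algebra A B']
  [IsScalarTower A A' B'] [IsScalarTower A B B']

theorem tensorMap_surjective (hs : Function.Surjective (algebraMap B B')) :
    Function.Surjective (tensorMap A B A' B') := by
  intro x
  induction x using TensorProduct.induction_on with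
  | zero => exact ⟨0, map_zero _⟩
  | tmul a b =>
    obtain ⟨a, rfl⟩ := hs a
    obtain ⟨b, rfl⟩ := hs b
    exact ⟨a ⊗ₜ b, tensorMap_tmul A B A' B' a b⟩
  | add x y hx hy =>
    obtain ⟨x, rfl⟩ := hx
    obtain ⟨y, rfl⟩ := hy
    exact ⟨x + y, map_add _ _ _⟩

theorem ideal_map_tensorMap (hs : Function.Surjective (algebraMap B B')) :
    (KaehlerDifferential.ideal A B).map (tensorMap A B A' B') = KaehlerDifferential.ideal A' B' := by
  refine le_antisymm (ideal_map_tensorMap_le A B A' B') (ideal_le A' B' fun b' => ?_)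
  obtain ⟨b, rfl⟩ := hs b'
  have := Ideal.mem_map_of_mem (tensorMap A B A' B')
    (KaehlerDifferential.one_smul_sub_smul_one_mem_ideal A b)
  rwa [map_sub, tensorMap_tmul, tensorMap_tmul, map_one] at this

theorem map_surjective (hs : Function.Surjective (algebraMap B B')) :
    Function.Surjective (map n A B A' B') := by
  intro x
  obtain ⟨x, rfl⟩ := Ideal.Quotient.mk_surjective x
  obtain ⟨y, rfl⟩ := tensorMap_surjective A B A' B' hs x
  exact ⟨Ideal.Quotient.mk _ y, rfl⟩

theorem ker_map (hs : Function.Surjective (algebraMap B B')) :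
    RingHom.ker (map n A B A' B') =
      (RingHom.ker (tensorMap A B A' B')).map (Ideal.Quotient.mk _) := by
  refine le_antisymm (fun z hz => ?_) (Ideal.map_le_iff_le_comap.2 fun x hx => ?_)
  · obtain ⟨x, rfl⟩ := Ideal.Quotient.mk_surjective z
    rw [RingHom.mem_ker, map_mk, Ideal.Quotient.eq_zero_iff_mem,
      ← ideal_map_tensorMap A B A' B' hs, ← Ideal.map_pow] at hz
    obtain ⟨y, hy, hxy⟩ :=
      (Ideal.mem_map_iff_of_surjective _ (tensorMap_surjective A B A' B' hs)).1 hz
    have he : Ideal.Quotient.mk ((KaehlerDifferential.ideal A B) ^ (n + 1)) x =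
        Ideal.Quotient.mk _ (x - y) := by
      rw [map_sub, Ideal.Quotient.eq_zero_iff_mem.2 hy, sub_zero]
    rw [he]
    exact Ideal.mem_map_of_mem _ (by rw [RingHom.mem_ker, map_sub, hxy, sub_self])
  · rw [Ideal.mem_comap, RingHom.mem_ker, map_mk, RingHom.mem_ker.1 hx, map_zero]

end functoriality

end Groth.Agent.PrinParts
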