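import Groth.Agent.PrinParts.Smooth
import Mathlib.Data.Nat.Choose.Sum
import Mathlib.Algebra.Algebra.Rat

/-!
# Differential smoothness in characteristic zero
-/

universe u v
open scoped TensorProduct
open MvPolynomial PP16
set_option linter.unusedSectionVars false

namespace Groth.Agent.PrinParts.Sym

variable {A B : Type u} [CommRing A] [CommRing B] [Algebra A B] {σ : Type v}
  (L : Derivation A B (σ →₀ B))

/-- The derivation of the polynomial ring extending `L`. -/
noncomputable def delta : MvPolynomial σ B →+ MvPolynomial σ B :=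
  (Finsupp.liftAddHom fun d : σ →₀ ℕ => AddMonoidHom.mk' (fun c : B => lin (L c) * monomial d 1)
    fun c c' => by simp [add_mul]).comp (MvPolynomial.basisMonomials σ B).repr.toLinearMap.toAddMonoidHom

theorem delta_monomial (d : σ →₀ ℕ) (c : B) : delta L (monomial d c) = lin (L c) * monomial d 1 := by
  have h : monomial d c = c • MvPolynomial.basisMonomials σ B d := by
    rw [coe_basisMonomials, smul_monomial, smul_eq_mul, mul_one]
  rw [delta, AddMonoidHom.comp_apply, LinearMap.toAddMonoidHom_coe, LinearEquiv.coe_coe, h, map_smul,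
    Module.Basis.repr_self, Finsupp.smul_single, smul_eq_mul, mul_one, Finsupp.liftAddHom_apply_single]
  rfl

theorem delta_C (c : B) : delta L (C c) = lin (L c) := by
  rw [C_apply, delta_monomial]; simp

theorem delta_mul (p q : MvPolynomial σ B) : delta L (p * q) = delta L p * q + p * delta L q := by
  induction p using MvPolynomial.induction_on' with
  | add p p' hp hp' => rw [add_mul, map_add, map_add, hp, hp']; ring
  | monomial d c =>
    induction q using MvPolynomial.induction_on' with
    | add q q' hq hq' => rw [mul_add, map_add, map_add, hq, hq']; ring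
    | monomial e c' =>
      rw [monomial_mul, delta_monomial, delta_monomial, delta_monomial, Derivation.leibniz, map_add, map_smul,
        map_smul, MvPolynomial.smul_eq_C_mul, MvPolynomial.smul_eq_C_mul,
        show monomial (d + e) (1 : B) = monomial d 1 * monomial e 1 by simp [monomial_mul],
        show monomial d c = C c * monomial d 1 by simp [C_mul_monomial],
        show monomial e c' = C c' * monomial e 1 by simp [C_mul_monomial]]
      ring

theorem delta_iterate_mul (n : ℕ) (p q : MvPolynomial σ B) :
    (delta L)^[n] (p * q) = ∑ ij ∈ Finset.antidiagonal n,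
      Nat.choose n ij.1 • ((delta L)^[ij.1] p * (delta L)^[ij.2] q) := by
  induction n with
  | zero => simp
  | succ n ih =>
    rw [Finset.sum_antidiagonal_choose_succ_nsmul (fun i j => (delta L)^[i] p * (delta L)^[j] q) n]
    simp only [Function.iterate_succ_apply', ih, map_sum, map_nsmul, delta_mul, smul_add, Finset.sum_add_distrib]
    rw [add_comm]
    congr 1
    refine Finset.sum_congr rfl fun ⟨i, j⟩ hij => ?_
    rw [n.choose_symm_of_eq_add (Finset.mem_antidiagonal.1 hij).symm]

theorem delta_mem {k : ℕ} {p : MvPolynomial σ B} (hp : p ∈ idealOfVars σ B ^ k) :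
    delta L p ∈ idealOfVars σ B ^ (k + 1) := by
  rw [p.as_sum, map_sum]
  refine sum_mem fun d hd => ?_
  rw [delta_monomial, pow_succ']
  refine Ideal.mul_mem_mul (lin_mem _) ?_
  rw [mem_pow_idealOfVars_iff] at hp ⊢
  intro e he
  classical
  obtain rfl : e = d := Finset.mem_singleton.1 (support_monomial_subset he)
  exact hp e hd

theorem delta_iterate_mem (k : ℕ) (x : B) : (delta L)^[k] (C x) ∈ idealOfVars σ B ^ k := by
  induction k with
  | zero => simp
  | succ k ih => rw [Function.iterate_succ_apply']; exact delta_mem L ih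

variable [Algebra ℚ B]

/-- `1 / k!` -/
noncomputable def invFac (k : ℕ) : B := algebraMap ℚ B (k.factorial : ℚ)⁻¹

theorem invFac_mul (i j : ℕ) :
    (invFac (i + j) : B) * ((i + j).choose i : B) = invFac i * invFac j := by
  rw [invFac, invFac, invFac, ← map_natCast (algebraMap ℚ B), ← map_mul, ← map_mul]
  congr 1
  have h := Nat.add_choose_mul_factorial_mul_factorial i j
  rw [Nat.choose_symm_add.symm] at h
  have hq : ((i + j).choose i : ℚ) * i.factorial * j.factorial = ((i + j).factorial : ℚ) := by exact_mod_cast h
  have hi : (i.factorial : ℚ) ≠ 0 := Nat.cast_ne_zero.2 i.factorial_ne_zero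
  have hj : (j.factorial : ℚ) ≠ 0 := Nat.cast_ne_zero.2 j.factorial_ne_zero
  have hij : ((i + j).factorial : ℚ) ≠ 0 := Nat.cast_ne_zero.2 (i + j).factorial_ne_zero
  field_simp
  linarith [hq]

/-- The truncated exponential of `delta`. -/
noncomputable def expTrunc (N : ℕ) (x : B) : MvPolynomial σ B :=
  ∑ k ∈ Finset.range (N + 1), (invFac k : B) • (delta L)^[k] (C x)

theorem expTrunc_mul (N : ℕ) (x y : B) :
    expTrunc L N (x * y) - expTrunc L N x * expTrunc L N y ∈ idealOfVars σ B ^ (N + 1) := by
  classical
  set S := Finset.range (N + 1) ×ˢ Finset.range (N + 1) with hS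
  let t : ℕ × ℕ → MvPolynomial σ B := fun p =>
    (invFac p.1 * invFac p.2 : B) • ((delta L)^[p.1] (C x) * (delta L)^[p.2] (C y))
  have h1 : expTrunc L N x * expTrunc L N y = ∑ p ∈ S, t p := by
    rw [expTrunc, expTrunc, Finset.sum_mul_sum, hS, Finset.sum_product]
    refine Finset.sum_congr rfl fun i _ => Finset.sum_congr rfl fun j _ => ?_
    simp only [t, smul_mul_smul_comm]
  have h2 : expTrunc L N (x * y) = ∑ p ∈ S.filter (fun p => p.1 + p.2 ≤ N), t p := by
    rw [expTrunc]
    have hfib : ∀ k ∈ Finset.range (N + 1),
        (S.filter (fun p => p.1 + p.2 ≤ N)).filter (fun p => p.1 + p.2 = k) = Finset.antidiagonal k := by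
      intro k hk
      ext ⟨i, j⟩
      simp only [hS, Finset.mem_filter, Finset.mem_product, Finset.mem_range, Finset.mem_antidiagonal] at hk ⊢
      omega
    rw [← Finset.sum_fiberwise_of_maps_to (t := Finset.range (N + 1)) (g := fun p => p.1 + p.2)
      (s := S.filter (fun p => p.1 + p.2 ≤ N))
      (fun p hp => by
        simp only [Finset.mem_filter] at hp
        exact Finset.mem_range.2 (by omega))]
    refine Finset.sum_congr rfl fun k hk => ?_
    rw [hfib k hk, map_mul, delta_iterate_mul, Finset.smul_sum]
    refine Finset.sum_congr rfl fun ⟨i, j⟩ hij => ?_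
    rw [Finset.mem_antidiagonal] at hij
    subst hij
    simp only [t]
    rw [← invFac_mul i j, mul_smul, Nat.cast_smul_eq_nsmul]
  rw [h1, h2, ← Finset.sum_filter_add_sum_filter_not S (fun p => p.1 + p.2 ≤ N), sub_add_cancel_left]
  refine neg_mem (sum_mem fun p hp => ?_)
  rw [Finset.mem_filter] at hp
  refine Submodule.smul_of_tower_mem _ _ ?_
  have h3 := Ideal.mul_mem_mul (delta_iterate_mem L p.1 x) (delta_iterate_mem L p.2 y)
  rw [← pow_add] at h3
  exact Ideal.pow_le_pow_right (by omega) h3

theorem expTrunc_algebraMap (N : ℕ) (a : A) : expTrunc L N (algebraMap A B a) = C (algebraMap A B a) := by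
  rw [expTrunc, Finset.sum_eq_single 0]
  · simp [invFac]
  · intro k _ hk
    obtain ⟨k, rfl⟩ := Nat.exists_eq_succ_of_ne_zero hk
    rw [Function.iterate_succ_apply, delta_C, Derivation.map_algebraMap, map_zero, iterate_map_zero, smul_zero]
  · simp

theorem isDiffSmooth_of_charZero (hΩ : Module.Free B (KaehlerDifferential A B)) : IsDiffSmooth A B := by
  obtain ⟨⟨κ, b⟩⟩ := hΩ.exists_basis
  let L := b.repr.toLinearMap.compDer (KaehlerDifferential.D A B)
  let E : ∀ N, B →ₐ[A] MvPolynomial _ B ⧸ idealOfVars _ B ^ (N + 1) := fun N =>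
    { toFun := fun x => Ideal.Quotient.mk _ (expTrunc L N x)
      map_one' := by
        rw [← map_one (algebraMap A B), expTrunc_algebraMap]; simp
      map_zero' := by
        rw [← map_zero (algebraMap A B), expTrunc_algebraMap]; simp
      map_add' := fun x y => by
        rw [← map_add]
        congr 1
        simp only [expTrunc, map_add, iterate_map_add, smul_add, Finset.sum_add_distrib]
      map_mul' := fun x y => by
        rw [← map_mul]
        exact Ideal.Quotient.eq.2 (expTrunc_mul L N x y)
      commutes' := fun a => by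
        rw [expTrunc_algebraMap]; rfl }
  refine isDiffSmooth_of_taylor ⟨L, b.repr.symm.toLinearMap, fun x => b.repr.symm_apply_apply _, E, fun N x => ?_⟩
  show Ideal.Quotient.mk _ (expTrunc L N x) - _ ∈ _
  rw [← map_sub]
  rcases N with _ | N
  · rw [show Ideal.Quotient.mk (idealOfVars _ B ^ (0 + 1)) (expTrunc L 0 x - (C x + lin (L x))) = 0 from
      Ideal.Quotient.eq_zero_iff_mem.2 (by
        rw [expTrunc, Finset.sum_range_one, Function.iterate_zero_apply,
          show (invFac 0 : B) = 1 by simp [invFac], one_smul, sub_add_cancel_left]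
        exact neg_mem (lin_mem_pow_one _))]
    exact zero_mem _
  · refine Ideal.mem_map_of_mem _ ?_
    rw [expTrunc, Finset.sum_range_succ', Finset.sum_range_succ', Function.iterate_zero_apply,
      Function.iterate_one, delta_C, show (invFac 0 : B) = 1 by simp [invFac],
      show (invFac (0 + 1) : B) = 1 by simp [invFac], one_smul, one_smul,
      add_assoc, add_comm (lin (L x)) (C x), add_sub_cancel_right]
    refine sum_mem fun k _ => Submodule.smul_of_tower_mem _ _ ?_
    exact Ideal.pow_le_pow_right (by omega) (delta_iterate_mem L (k + 1 + 1) x)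

end Groth.Agent.PrinParts.Sym
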