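import Groth.Agent.PrinParts.Smooth
import Groth.Agent.DiffOps.Basic
import Mathlib.Algebra.Polynomial.Taylor
import Mathlib.Algebra.Order.Antidiag.Pi

/-!
# Monomials in `ζ_i = 1 ⊗ z_i - z_i ⊗ 1`
-/

universe u
open scoped TensorProduct
open PP16 Diff16
set_option linter.unusedSectionVars false

namespace Groth.Agent.PrinParts.Mon

variable {A B : Type u} [CommRing A] [CommRing B] [Algebra A B] {ι : Type} [Fintype ι] [DecidableEq ι]
  (z : ι → B)

local notation "𝐈" => KaehlerDifferential.ideal A B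

/-- `ζ_i`. -/
noncomputable def zeta (i : ι) : B ⊗[A] B := (1 : B) ⊗ₜ[A] z i - z i ⊗ₜ[A] (1 : B)

theorem zeta_mem (i : ι) : zeta (A := A) z i ∈ 𝐈 :=
  KaehlerDifferential.one_smul_sub_smul_one_mem_ideal A (z i)

/-- `ζ^p`. -/
noncomputable def mon (p : ι → ℕ) : B ⊗[A] B := ∏ i, zeta z i ^ p i

theorem mon_mem (p : ι → ℕ) : mon (A := A) z p ∈ 𝐈 ^ ∑ i, p i := by
  rw [mon, ← Finset.prod_pow_eq_pow_sum]
  exact Ideal.prod_mem_prod fun i _ => Ideal.pow_mem_pow (zeta_mem z i) _

theorem mon_add (p q : ι → ℕ) : mon (A := A) z (p + q) = mon z p * mon z q := by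
  simp [mon, pow_add, Finset.prod_mul_distrib]

theorem mon_single (i : ι) : mon (A := A) z (Pi.single i 1) = zeta z i := by
  rw [mon, Fintype.prod_eq_single i fun j hj => by simp [Pi.single_eq_of_ne hj]]
  simp

/-- The span of the monomials with degree in `[k, m]`. -/
def monSpan (k m : ℕ) : Submodule B (B ⊗[A] B) :=
  Submodule.span B (mon z '' {p | k ≤ ∑ i, p i ∧ ∑ i, p i ≤ m})

section span

variable (hz : Submodule.span B (Set.range fun i => KaehlerDifferential.D A B (z i)) = ⊤)
include hz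

theorem mem_span_step {k : ℕ} {x : B ⊗[A] B} (hx : x ∈ 𝐈 ^ k) :
    x ∈ monSpan z k k ⊔ (𝐈 ^ (k + 1)).restrictScalars B := by
  induction k generalizing x with
  | zero =>
    rw [zero_add, pow_one,
      show x = Algebra.TensorProduct.lmul' A (S := B) x • mon z 0 +
        (x - algebraMap B (B ⊗[A] B) (Algebra.TensorProduct.lmul' A (S := B) x)) by
          simp [mon, Algebra.smul_def]]
    refine Submodule.add_mem_sup (Submodule.smul_mem _ _ (Submodule.subset_span ⟨0, by simp, rfl⟩)) ?_
    show Algebra.TensorProduct.lmul' A (S := B) _ = 0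
    rw [map_sub]; simp [Algebra.TensorProduct.algebraMap_apply]
  | succ k ih =>
    rw [pow_succ] at hx
    refine Submodule.mul_induction_on hx (fun x hx y hy => ?_) fun _ _ => add_mem
    obtain ⟨p, hp, q, hq, rfl⟩ := Submodule.mem_sup.1 (ih hx)
    rw [add_mul]
    refine add_mem ?_ (Submodule.mem_sup_right (by
      show q * y ∈ 𝐈 ^ (k + 1 + 1)
      rw [pow_succ]; exact Ideal.mul_mem_mul hq hy))
    obtain ⟨c, hc⟩ := (Submodule.mem_span_range_iff_exists_fun B).1
      (hz ▸ Submodule.mem_top : KaehlerDifferential.fromIdeal A B ⟨y, hy⟩ ∈ _)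
    have hy2 : y - ∑ i, algebraMap B (B ⊗[A] B) (c i) * zeta z i ∈ 𝐈 ^ 2 := by
      have h := Sym.sub_mem_sq A B (x := ⟨y, hy⟩)
        (y := ∑ i, algebraMap B (B ⊗[A] B) (c i) • (⟨zeta z i, zeta_mem z i⟩ : 𝐈)) (by
          rw [map_sum, ← hc]
          refine Finset.sum_congr rfl fun i _ => ?_
          rw [map_smul, algebraMap_smul]
          rfl)
      rw [AddSubmonoidClass.coe_finsetSum] at h
      exact h
    rw [show p * y = p * ∑ i, algebraMap B (B ⊗[A] B) (c i) * zeta z i +
      p * (y - ∑ i, algebraMap B (B ⊗[A] B) (c i) * zeta z i) by ring]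
    refine add_mem (Submodule.mem_sup_left ?_) (Submodule.mem_sup_right ?_)
    · rw [Finset.mul_sum]
      refine sum_mem fun i _ => ?_
      rw [mul_left_comm, ← Algebra.smul_def]
      refine Submodule.smul_mem _ _ ?_
      clear hx hq
      induction hp using Submodule.span_induction with
      | mem a ha =>
        obtain ⟨e, he, rfl⟩ := ha
        rw [← mon_single (A := A) z i, ← mon_add]
        refine Submodule.subset_span ⟨_, ?_, rfl⟩
        have : ∑ j, (e + Pi.single i 1 : ι → ℕ) j = ∑ j, e j + 1 := by simp [Finset.sum_add_distrib]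
        simp only [Set.mem_setOf_eq] at he ⊢
        omega
      | zero => rw [zero_mul]; exact zero_mem _
      | add a b _ _ iha ihb => rw [add_mul]; exact add_mem iha ihb
      | smul d a _ iha => rw [smul_mul_assoc]; exact Submodule.smul_mem _ _ iha
    · show p * _ ∈ 𝐈 ^ (k + 1 + 1)
      have hpI : p ∈ 𝐈 ^ k := (Submodule.span_le (p := (𝐈 ^ k).restrictScalars B)).2 (by
        rintro _ ⟨e, he, rfl⟩
        exact Ideal.pow_le_pow_right he.1 (mon_mem z e)) hp
      rw [show k + 1 + 1 = k + 2 from rfl, pow_add]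
      exact Ideal.mul_mem_mul hpI hy2

theorem mem_span (m : ℕ) : ∀ (k : ℕ) {x : B ⊗[A] B}, x ∈ 𝐈 ^ k →
    x ∈ monSpan z k m ⊔ (𝐈 ^ (m + 1)).restrictScalars B := by
  intro k
  induction hj : m + 1 - k using Nat.strong_induction_on generalizing k with
  | _ j ih =>
    intro x hx
    rcases Nat.lt_or_ge m k with hk | hk
    · exact Submodule.mem_sup_right (Ideal.pow_le_pow_right hk hx)
    · obtain ⟨p, hp, q, hq, rfl⟩ := Submodule.mem_sup.1 (mem_span_step z hz hx)
      obtain ⟨p', hp', q', hq', rfl⟩ := Submodule.mem_sup.1 (ih (m + 1 - (k + 1)) (by omega) (k + 1) rfl hq)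
      rw [← add_assoc]
      refine Submodule.add_mem_sup (add_mem ?_ ?_) hq'
      · refine Submodule.span_mono (Set.image_mono ?_) hp
        intro e he; exact ⟨he.1, by have := he.2; omega⟩
      · refine Submodule.span_mono (Set.image_mono ?_) hp'
        intro e he; exact ⟨by have := he.1; omega, he.2⟩

end span

/-- Dual functionals to the monomials. -/
structure Dual (A : Type u) {B : Type u} [CommRing A] [CommRing B] [Algebra A B] {ι : Type} [Fintype ι]
    [DecidableEq ι] (z : ι → B) where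
  u : (ι → ℕ) → (B ⊗[A] B →ₗ[B] B)
  hu : ∀ p q, u p (mon z q) = if q = p then 1 else 0
  hord : ∀ p, ∃ K : ℕ, ∀ x ∈ KaehlerDifferential.ideal A B ^ (K + 1), u p x = 0

theorem Dual.vanish (hz : Submodule.span B (Set.range fun i => KaehlerDifferential.D A B (z i)) = ⊤)
    (d : Dual A z) (p : ι → ℕ) {x : B ⊗[A] B} (hx : x ∈ 𝐈 ^ (∑ i, p i + 1)) : d.u p x = 0 := by
  obtain ⟨K, hK⟩ := d.hord p
  obtain ⟨a, ha, b, hb, rfl⟩ := Submodule.mem_sup.1 (mem_span z hz K _ hx)
  rw [map_add, hK b hb, add_zero]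
  have : monSpan (A := A) z (∑ i, p i + 1) K ≤ LinearMap.ker (d.u p) := by
    rw [monSpan, Submodule.span_le]
    rintro _ ⟨q, hq, rfl⟩
    rw [SetLike.mem_coe, LinearMap.mem_ker, d.hu, if_neg]
    rintro rfl
    have := hq.1
    omega
  exact this ha

/-- Monomials of degree `≤ m` are independent modulo `I^(m+1)`. -/
def Indep (A : Type u) {B : Type u} [CommRing A] [CommRing B] [Algebra A B] {ι : Type} [Fintype ι]
    [DecidableEq ι] (z : ι → B) : Prop :=
  ∀ (m : ℕ) (s : Finset (ι → ℕ)) (c : (ι → ℕ) → B), (∀ p ∈ s, ∑ i, p i ≤ m) →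
    (∑ p ∈ s, c p • mon (A := A) z p) ∈ KaehlerDifferential.ideal A B ^ (m + 1) → ∀ p ∈ s, c p = 0

theorem indep_of_dual (hz : Submodule.span B (Set.range fun i => KaehlerDifferential.D A B (z i)) = ⊤)
    (d : Dual A z) : Indep A z := by
  intro m s c hs hmem p hp
  have h := d.vanish z hz p (Ideal.pow_le_pow_right (by have := hs p hp; omega) hmem)
  rw [map_sum, Finset.sum_eq_single p] at h
  · simpa [d.hu] using h
  · intro q _ hq; simp [d.hu, hq]
  · exact fun h => absurd hp h

theorem indep_of_isDiffSmooth (hB : IsDiffSmooth A B)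
    (b : Module.Basis ι B (KaehlerDifferential A B)) (hb : ∀ i, b i = KaehlerDifferential.D A B (z i)) :
    Indep A z := by
  classical
  obtain ⟨T, hTL, -⟩ := Sym.exists_taylor_of_isDiffSmooth hB b.repr.toLinearMap b.repr.symm.toLinearMap
    fun x => b.repr.symm_apply_apply x
  intro m s c hs hmem
  let Q := MvPolynomial ι B ⧸ MvPolynomial.idealOfVars ι B ^ (m + 1)
  let Λ : B ⊗[A] B →ₐ[B] Q := Algebra.TensorProduct.lift (Algebra.ofId B Q) (T.E m) fun _ _ => Commute.all _ _
  let J : Ideal Q := (MvPolynomial.idealOfVars ι B).map (Ideal.Quotient.mk _)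
  have hlinX : ∀ i, Sym.lin (T.L (z i)) = (MvPolynomial.X i : MvPolynomial ι B) := fun i => by
    rw [hTL, ← hb]; simp [Sym.lin]
  have hζ : ∀ i, Λ (zeta z i) - Ideal.Quotient.mk _ (MvPolynomial.X i) ∈ J ^ 2 := fun i => by
    rw [zeta, map_sub, Algebra.TensorProduct.lift_tmul, Algebra.TensorProduct.lift_tmul, map_one, map_one,
      one_mul, mul_one, ← hlinX]
    have h := T.hE m (z i)
    rw [Ideal.map_pow, map_add] at h
    convert h using 1
    rw [sub_sub]
    rfl
  have hXJ : ∀ i, Ideal.Quotient.mk (MvPolynomial.idealOfVars ι B ^ (m + 1)) (MvPolynomial.X i) ∈ J := fun i =>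
    Ideal.mem_map_of_mem _ (Ideal.subset_span ⟨i, rfl⟩)
  have hζJ : ∀ i, Λ (zeta z i) ∈ J := fun i => by
    have := add_mem (Ideal.pow_le_self two_ne_zero (hζ i)) (hXJ i)
    rwa [sub_add_cancel] at this
  have hmon : ∀ p, Λ (mon z p) -
      Ideal.Quotient.mk _ (MvPolynomial.monomial (Finsupp.equivFunOnFinite.symm p) 1) ∈ J ^ (∑ i, p i + 1) := by
    intro p
    rw [MvPolynomial.monomial_eq, Finsupp.prod_fintype _ _ (by simp), MvPolynomial.C_1, one_mul, mon, map_prod,
      map_prod]
    simp only [map_pow, Finsupp.coe_equivFunOnFinite_symm]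
    have h := Sym.prod_congr_sq J (fun x : Σ i : ι, Fin (p i) => Λ (zeta z x.1))
      (fun x => Ideal.Quotient.mk _ (MvPolynomial.X x.1)) (fun x => hζJ x.1) (fun x => hXJ x.1) (fun x => hζ x.1)
      Finset.univ
    simpa [Fintype.prod_sigma, Fintype.card_sigma] using h
  have hJn : J ^ (m + 1) = ⊥ := by rw [← Ideal.map_pow, Ideal.map_quotient_self]
  have h0 : Λ (∑ p ∈ s, c p • mon z p) = 0 := by
    have hle : (𝐈).map Λ ≤ J := by
      rw [← KaehlerDifferential.span_range_eq_ideal, Ideal.map_span, Ideal.span_le]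
      rintro _ ⟨_, ⟨x, rfl⟩, rfl⟩
      rw [SetLike.mem_coe, map_sub, Algebra.TensorProduct.lift_tmul, Algebra.TensorProduct.lift_tmul, map_one,
        map_one, one_mul, mul_one]
      have h := T.hE m x
      rw [Ideal.map_pow, map_add] at h
      have h2 := add_mem (Ideal.pow_le_self two_ne_zero h) (Ideal.mem_map_of_mem (Ideal.Quotient.mk _) (Sym.lin_mem (T.L x)))
      convert h2 using 1
      rw [← sub_sub, sub_add_cancel]
      rfl
    have := Ideal.pow_right_mono hle (m + 1) (by rw [← Ideal.map_pow]; exact Ideal.mem_map_of_mem _ hmem)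
    rwa [hJn, Ideal.mem_bot] at this
  suffices ∀ k, ∀ p ∈ s, ∑ i, p i = k → c p = 0 from fun p hp => this _ p hp rfl
  intro k
  induction k using Nat.strong_induction_on with
  | _ k ih =>
    intro p hp hpk
    have h1 : Ideal.Quotient.mk _ (∑ q ∈ s, c q • MvPolynomial.monomial (Finsupp.equivFunOnFinite.symm q) (1 : B)) ∈ J ^ (k + 1) := by
      have e : ∑ q ∈ s, c q • (Λ (mon z q) -
          Ideal.Quotient.mk _ (MvPolynomial.monomial (Finsupp.equivFunOnFinite.symm q) 1)) ∈ J ^ (k + 1) := by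
        refine sum_mem fun q hq => ?_
        rcases Nat.lt_or_ge (∑ i, q i) k with hlt | hge
        · rw [ih _ hlt q hq rfl, zero_smul]; exact zero_mem _
        · exact Submodule.smul_of_tower_mem _ _ (Ideal.pow_le_pow_right (by omega) (hmon q))
      have e' : ∑ q ∈ s, c q • Λ (mon z q) = 0 := by
        rw [← h0, map_sum]
        exact Finset.sum_congr rfl fun q _ => (map_smul Λ _ _).symm
      rw [Finset.sum_congr rfl fun q _ => smul_sub (c q) _ _, Finset.sum_sub_distrib, e', zero_sub, neg_mem_iff] at e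
      rw [← Ideal.Quotient.mkₐ_eq_mk B, map_sum]
      convert e using 2 with q _
      exact map_smul (Ideal.Quotient.mkₐ B (MvPolynomial.idealOfVars ι B ^ (m + 1))) _ _
    rw [← Ideal.map_pow, Ideal.mem_map_iff_of_surjective _ Ideal.Quotient.mk_surjective] at h1
    obtain ⟨g, hg, hge⟩ := h1
    rw [Ideal.Quotient.eq, MvPolynomial.mem_pow_idealOfVars_iff'] at hge
    rw [MvPolynomial.mem_pow_idealOfVars_iff'] at hg
    have hd : Finsupp.degree (Finsupp.equivFunOnFinite.symm p) = k := by simp [Finsupp.degree_eq_sum, hpk]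
    have h2 := hge (Finsupp.equivFunOnFinite.symm p) (by have := hs p hp; omega)
    rw [MvPolynomial.coeff_sub, hg _ (by omega), zero_sub, neg_eq_zero, MvPolynomial.coeff_sum,
      Finset.sum_eq_single p] at h2
    · simpa using h2
    · intro q _ hq
      rw [MvPolynomial.coeff_smul, MvPolynomial.coeff_monomial, if_neg fun h => hq (Finsupp.equivFunOnFinite.symm.injective h), smul_zero]
    · exact fun h => absurd hp h

theorem finite_bounded (m : ℕ) : {p : ι → ℕ | ∑ i, p i ≤ m}.Finite :=
  Set.Finite.subset (Fintype.piFinset fun _ : ι => Finset.range (m + 1)).finite_toSet fun p hp => by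
    rw [Finset.mem_coe, Fintype.mem_piFinset]
    exact fun i => Finset.mem_range.2 (Nat.lt_succ_of_le
      ((Finset.single_le_sum (f := p) (fun _ _ => Nat.zero_le _) (Finset.mem_univ i)).trans hp))

/-- The monomial basis of `P^m`. -/
theorem exists_basis (hz : Submodule.span B (Set.range fun i => KaehlerDifferential.D A B (z i)) = ⊤)
    (hi : Indep A z) (m : ℕ) :
    ∃ b : Module.Basis {p : ι → ℕ // ∑ i, p i ≤ m} B (PP16.P m A B),
      ∀ p, b p = ∏ i, (PP16.dn m A B (z i) - algebraMap B (PP16.P m A B) (z i)) ^ (p.1 i) := by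
  classical
  let v : {p : ι → ℕ // ∑ i, p i ≤ m} → PP16.P m A B := fun p => Ideal.Quotient.mkₐ B _ (mon z p.1)
  haveI : Fintype {p : ι → ℕ // ∑ i, p i ≤ m} := (finite_bounded m).fintype
  have hli : LinearIndependent B v := by
    rw [Fintype.linearIndependent_iff]
    intro g hg p
    let c : (ι → ℕ) → B := fun q => if h : ∑ i, q i ≤ m then g ⟨q, h⟩ else 0
    let e : {p : ι → ℕ // ∑ i, p i ≤ m} ↪ (ι → ℕ) := Function.Embedding.subtype _
    have hsum : ∑ q ∈ Finset.univ.map e, c q • mon (A := A) z q ∈ 𝐈 ^ (m + 1) := by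
      rw [Finset.sum_map, ← Ideal.Quotient.eq_zero_iff_mem, ← Ideal.Quotient.mkₐ_eq_mk B, map_sum, ← hg]
      refine Finset.sum_congr rfl fun q _ => ?_
      rw [map_smul]
      simp [c, e, v, q.2]
    have := hi m (Finset.univ.map e) c (fun q hq => by
      obtain ⟨q, -, rfl⟩ := Finset.mem_map.1 hq; exact q.2) hsum (e p) (Finset.mem_map.2 ⟨p, Finset.mem_univ _, rfl⟩)
    simpa [c, e, p.2] using this
  have hsp : ⊤ ≤ Submodule.span B (Set.range v) := by
    intro x _
    obtain ⟨x, rfl⟩ := Ideal.Quotient.mk_surjective x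
    obtain ⟨a, ha, b, hb, rfl⟩ := Submodule.mem_sup.1 (mem_span z hz m 0 (show x ∈ 𝐈 ^ 0 by simp))
    rw [map_add, Ideal.Quotient.eq_zero_iff_mem.2 hb, add_zero]
    have := Submodule.mem_map_of_mem (f := (Ideal.Quotient.mkₐ B (𝐈 ^ (m + 1))).toLinearMap) ha
    rw [monSpan, Submodule.map_span] at this
    refine Submodule.span_mono ?_ this
    rintro _ ⟨_, ⟨q, hq, rfl⟩, rfl⟩
    exact ⟨⟨q, hq.2⟩, rfl⟩
  refine ⟨Module.Basis.mk hli hsp, fun p => ?_⟩
  rw [Module.Basis.mk_apply]
  simp only [v, mon, map_prod, map_pow, zeta, map_sub]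
  rfl

theorem exists_dual (hz : Submodule.span B (Set.range fun i => KaehlerDifferential.D A B (z i)) = ⊤)
    (hi : Indep A z) : Nonempty (Dual A z) := by
  choose b hb using fun m => exists_basis z hz hi m
  refine ⟨{ u := fun p => (b (∑ i, p i)).coord ⟨p, le_rfl⟩ ∘ₗ (Ideal.Quotient.mkₐ B _).toLinearMap, hu := fun p q => ?_, hord := fun p => ⟨∑ i, p i, fun x hx => ?_⟩ }⟩
  · rw [LinearMap.comp_apply, AlgHom.toLinearMap_apply]
    by_cases hq : ∑ i, q i ≤ ∑ i, p i
    · have : Ideal.Quotient.mkₐ B _ (mon z q) = b (∑ i, p i) ⟨q, hq⟩ := by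
        rw [hb, mon]
        simp only [map_prod, map_pow, zeta, map_sub]
        rfl
      rw [this, Module.Basis.coord_apply, Module.Basis.repr_self, Finsupp.single_apply]
      simp
    · rw [Ideal.Quotient.mkₐ_eq_mk, Ideal.Quotient.eq_zero_iff_mem.2
        (Ideal.pow_le_pow_right (by omega) (mon_mem z q)), map_zero, if_neg]
      rintro rfl
      exact hq le_rfl
  · rw [LinearMap.comp_apply, AlgHom.toLinearMap_apply, Ideal.Quotient.mkₐ_eq_mk,
      Ideal.Quotient.eq_zero_iff_mem.2 hx, map_zero]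

/-- The operator attached to a functional. -/
noncomputable def Dual.op (d : Dual A z) (p : ι → ℕ) : B →ₗ[A] B :=
  (d.u p).restrictScalars A ∘ₗ (Algebra.TensorProduct.includeRight : B →ₐ[A] B ⊗[A] B).toLinearMap

theorem linearize_eq (d : Dual A z) (p : ι → ℕ) (x : B ⊗[A] B) :
    linearize A B B B (d.op z p) x = d.u p x := by
  induction x using TensorProduct.induction_on with
  | zero => simp
  | tmul a b =>
    rw [Groth.Agent.DiffOps.linearize_tmul, show d.op z p b = d.u p ((1 : B) ⊗ₜ[A] b) from rfl, ← map_smul,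
      TensorProduct.smul_tmul', smul_eq_mul, mul_one]
  | add x y hx hy => rw [map_add, map_add, hx, hy]

theorem Dual.op_order (hz : Submodule.span B (Set.range fun i => KaehlerDifferential.D A B (z i)) = ⊤)
    (d : Dual A z) (p : ι → ℕ) : IsDiffOpLE A B B B (∑ i, p i) (d.op z p) := by
  rw [Groth.Agent.DiffOps.diff_iff_linearize]
  intro x hx
  rw [linearize_eq, d.vanish z hz p hx]

theorem one_tmul_monomial (q : ι → ℕ) :
    (1 : B) ⊗ₜ[A] (∏ i, z i ^ q i) = ∑ r ∈ Fintype.piFinset (fun i => Finset.range (q i + 1)),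
      (∏ i, z i ^ (q i - r i) * (Nat.choose (q i) (r i) : B)) • mon z r := by
  have h : (1 : B) ⊗ₜ[A] (∏ i, z i ^ q i) = ∏ i, (zeta z i + algebraMap B (B ⊗[A] B) (z i)) ^ q i := by
    rw [show (1 : B) ⊗ₜ[A] (∏ i, z i ^ q i) =
      (Algebra.TensorProduct.includeRight : B →ₐ[A] B ⊗[A] B) (∏ i, z i ^ q i) from rfl, map_prod]
    refine Finset.prod_congr rfl fun i _ => ?_
    rw [map_pow, zeta, Algebra.TensorProduct.algebraMap_apply, Algebra.algebraMap_self, RingHom.id_apply,
      sub_add_cancel]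
    rfl
  rw [h]
  simp only [add_pow]
  rw [Finset.prod_univ_sum]
  refine Finset.sum_congr rfl fun r _ => ?_
  rw [mon, Algebra.smul_def, map_prod, ← Finset.prod_mul_distrib]
  refine Finset.prod_congr rfl fun i _ => ?_
  rw [map_mul, map_pow, map_natCast]
  ring

theorem Dual.op_monomial (d : Dual A z) (p q : ι → ℕ) :
    d.op z p (∏ i, z i ^ q i) = ((∏ i, Nat.choose (q i) (p i) : ℕ) : B) * ∏ i, z i ^ (q i - p i) := by
  show d.u p ((1 : B) ⊗ₜ[A] _) = _
  rw [one_tmul_monomial, map_sum]
  simp only [map_smul, d.hu, smul_eq_mul, mul_ite, mul_one, mul_zero]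
  rw [Finset.sum_ite_eq']
  split
  · rw [Finset.prod_mul_distrib, mul_comm, Nat.cast_prod]
  · rename_i hp
    simp only [Fintype.mem_piFinset, Finset.mem_range, not_forall, not_lt] at hp
    obtain ⟨i, hi⟩ := hp
    rw [Finset.prod_eq_zero (Finset.mem_univ i) (Nat.choose_eq_zero_of_lt (by omega)), Nat.cast_zero, zero_mul]

theorem taylor_delta (w : B) (q p : ℕ) :
    ∑ r ∈ Finset.range (q + 1), ((Nat.choose q r : B) * (-w) ^ (q - r)) * ((Nat.choose r p : B) * w ^ (r - p)) =
      if q = p then 1 else 0 := by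
  have h := Polynomial.taylor_coeff (r := w) (f := (Polynomial.X + Polynomial.C (-w)) ^ q) p
  rw [Polynomial.taylor_pow, map_add, Polynomial.taylor_X, Polynomial.taylor_C, add_assoc, ← map_add,
    add_neg_cancel, map_zero, add_zero, Polynomial.coeff_X_pow] at h
  rw [add_pow, map_sum, Polynomial.eval_finsetSum] at h
  rw [show (if q = p then (1 : B) else 0) = if p = q then 1 else 0 by simp [eq_comm], h]
  refine Finset.sum_congr rfl fun r _ => ?_
  rw [show Polynomial.X ^ r * Polynomial.C (-w) ^ (q - r) * (Nat.choose q r : Polynomial B) =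
      Polynomial.monomial r ((-w) ^ (q - r) * (Nat.choose q r : B)) by
        rw [← Polynomial.C_mul_X_pow_eq_monomial, map_mul, map_pow, map_natCast]; ring,
    Polynomial.hasseDeriv_monomial, Polynomial.eval_monomial]
  ring

theorem nonempty_dual_of_ops (Dp : (ι → ℕ) → (B →ₗ[A] B)) (hD : ∀ p, ∃ k : ℕ, IsDiffOpLE A B B B k (Dp p))
    (hDz : ∀ p q : ι → ℕ, Dp p (∏ i, z i ^ q i) =
        ((∏ i, Nat.choose (q i) (p i) : ℕ) : B) * ∏ i, z i ^ (q i - p i)) :
    ∃ d : Dual A z, ∀ p x, d.u p x = linearize A B B B (Dp p) x := by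
  let u : (ι → ℕ) → (B ⊗[A] B →ₗ[B] B) := fun p =>
    { toFun := linearize A B B B (Dp p)
      map_add' := map_add _
      map_smul' := fun c x => by
        induction x using TensorProduct.induction_on with
        | zero => simp
        | tmul a b => simp [TensorProduct.smul_tmul', mul_assoc]
        | add x y hx hy => simp only [smul_add, map_add, hx, hy, RingHom.id_apply] }
  refine ⟨⟨u, fun p q => ?_, fun p => ?_⟩, fun p x => rfl⟩
  · have hexp : mon (A := A) z q = ∑ r ∈ Fintype.piFinset (fun i => Finset.range (q i + 1)),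
        (∏ i, ((Nat.choose (q i) (r i) : B) * (-z i) ^ (q i - r i))) • ((1 : B) ⊗ₜ[A] ∏ i, z i ^ r i) := by
      have hz' : ∀ i, zeta (A := A) z i = (1 : B) ⊗ₜ[A] z i + algebraMap B (B ⊗[A] B) (-z i) := fun i => by
        rw [zeta, map_neg, Algebra.TensorProduct.algebraMap_apply, Algebra.algebraMap_self, RingHom.id_apply,
          sub_eq_add_neg]
      simp only [mon, hz', add_pow]
      rw [Finset.prod_univ_sum]
      refine Finset.sum_congr rfl fun r _ => ?_
      rw [show (1 : B) ⊗ₜ[A] (∏ i, z i ^ r i) =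
        (Algebra.TensorProduct.includeRight : B →ₐ[A] B ⊗[A] B) (∏ i, z i ^ r i) from rfl, map_prod,
        Algebra.smul_def, map_prod, ← Finset.prod_mul_distrib]
      refine Finset.prod_congr rfl fun i _ => ?_
      rw [map_pow, map_mul, map_pow, map_natCast]
      show _ = _ * ((1 : B) ⊗ₜ[A] z i) ^ r i
      ring
    rw [hexp, map_sum]
    simp only [map_smul, smul_eq_mul, show ∀ r : ι → ℕ, u p ((1 : B) ⊗ₜ[A] ∏ i, z i ^ r i) =
      Dp p (∏ i, z i ^ r i) from fun r => by simp [u], hDz, Nat.cast_prod, ← Finset.prod_mul_distrib]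
    rw [← Finset.prod_univ_sum (fun i => Finset.range (q i + 1))
      (fun i r => ((Nat.choose (q i) r : B) * (-z i) ^ (q i - r)) * ((Nat.choose r (p i) : B) * z i ^ (r - p i))),
      Finset.prod_congr rfl fun i _ => taylor_delta (z i) (q i) (p i)]
    by_cases h : q = p
    · subst h; simp
    · obtain ⟨i, hi⟩ : ∃ i, q i ≠ p i := Function.ne_iff.1 h
      rw [if_neg h, Finset.prod_eq_zero (Finset.mem_univ i) (if_neg hi)]
  · obtain ⟨k, hk⟩ := hD p
    exact ⟨k, (Groth.Agent.DiffOps.diff_iff_linearize k _).1 hk⟩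

/-- (b) ⇒ (a). -/
theorem smooth_of_dual (hz : Submodule.span B (Set.range fun i => KaehlerDifferential.D A B (z i)) = ⊤)
    (d : Dual A z) :
    IsDiffSmooth A B ∧
      ∃ b : Module.Basis ι B (KaehlerDifferential A B), ∀ i, b i = KaehlerDifferential.D A B (z i) := by
  classical
  have hli : LinearIndependent B fun i => KaehlerDifferential.D A B (z i) := by
    rw [Fintype.linearIndependent_iff]
    intro c hc i
    have hmem : ∑ j, c j • mon (A := A) z (Pi.single j 1) ∈ 𝐈 ^ (1 + 1) := by
      have h := Sym.sub_mem_sq A B (x := ∑ j, algebraMap B (B ⊗[A] B) (c j) • ⟨zeta z j, zeta_mem z j⟩) (y := 0) (by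
        rw [map_sum, map_zero, ← hc]
        refine Finset.sum_congr rfl fun j _ => ?_
        rw [map_smul, algebraMap_smul]
        rfl)
      rw [AddSubmonoidClass.coe_finsetSum, ZeroMemClass.coe_zero, sub_zero] at h
      convert h using 1
      refine Finset.sum_congr rfl fun j _ => ?_
      rw [mon_single, Algebra.smul_def]
      rfl
    have h := d.vanish z hz (Pi.single i 1) (x := ∑ j, c j • mon z (Pi.single j 1)) (by
      rw [Fintype.sum_pi_single']; exact hmem)
    rw [map_sum, Finset.sum_eq_single i] at h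
    · simpa [d.hu] using h
    · intro j _ hj
      rw [map_smul, d.hu, if_neg, smul_zero]
      intro he
      have := congrFun he j
      simp [Pi.single_eq_of_ne hj] at this
    · simp
  let b := Module.Basis.mk hli hz.ge
  have hb : ∀ i, b i = KaehlerDifferential.D A B (z i) := fun i => Module.Basis.mk_apply hli hz.ge i
  refine ⟨(Sym.isDiffSmooth_iff A B).2 ⟨Module.Projective.of_basis b, fun κ _ => ?_⟩, b, hb⟩
  set n := Fintype.card κ
  let G0 : B ⊗[A] B →ₗ[B] MvPolynomial ι B := ∑ p ∈ Finset.piAntidiag (Finset.univ : Finset ι) n,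
    (LinearMap.toSpanSingleton B (MvPolynomial ι B)
      (MvPolynomial.monomial (Finsupp.equivFunOnFinite.symm p) (1 : B))) ∘ₗ d.u p
  let G : grI A B n →ₗ[B] MvPolynomial ι B :=
    Submodule.liftQ _ (G0 ∘ₗ ((𝐈 ^ n).restrictScalars B).subtype) fun y hy => by
      simp only [LinearMap.mem_ker, LinearMap.comp_apply, Submodule.subtype_apply, G0, LinearMap.sum_apply]
      refine Finset.sum_eq_zero fun p hp => ?_
      rw [Finset.mem_piAntidiag] at hp
      rw [d.vanish z hz p (by rw [hp.1]; exact hy), map_zero]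
  refine Sym.bijective_phi_of_detect A B b.repr.toLinearMap b.repr.symm.toLinearMap
    (fun x => b.repr.symm_apply_apply x) G z hz fun v => ?_
  have hprod : ∀ {M : Type u} [CommMonoid M] (g : ι → M),
      ∏ j, g (v j) = ∏ i, g i ^ (Finset.univ.filter fun j => v j = i).card := fun g => by
    rw [← Finset.prod_fiberwise' Finset.univ v g]
    exact Finset.prod_congr rfl fun i _ => Finset.prod_const _
  set q : ι → ℕ := fun i => (Finset.univ.filter fun j => v j = i).card
  have hq : q ∈ Finset.piAntidiag (Finset.univ : Finset ι) n := by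
    rw [Finset.mem_piAntidiag]
    exact ⟨(Finset.card_eq_sum_card_fiberwise fun j _ => Finset.mem_univ (v j)).symm, fun _ _ => Finset.mem_univ _⟩
  show G0 (∏ j, ((1 : B) ⊗ₜ[A] z (v j) - z (v j) ⊗ₜ[A] (1 : B))) = _
  rw [hprod (fun i => (1 : B) ⊗ₜ[A] z i - z i ⊗ₜ[A] (1 : B))]
  rw [show (∏ i, ((1 : B) ⊗ₜ[A] z i - z i ⊗ₜ[A] (1 : B)) ^ q i) = mon z q from rfl]
  simp only [G0, LinearMap.sum_apply, LinearMap.comp_apply, d.hu, LinearMap.toSpanSingleton_apply, ite_smul,
    one_smul, zero_smul]
  rw [Finset.sum_ite_eq, if_pos hq]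
  simp only [← hb, LinearEquiv.coe_coe, Module.Basis.repr_self, Sym.lin, Finsupp.linearCombination_single, one_smul]
  rw [hprod (fun i => (MvPolynomial.X i : MvPolynomial ι B)), MvPolynomial.monomial_eq,
    Finsupp.prod_fintype _ _ (by simp), MvPolynomial.C_1, one_mul]
  simp [q]

/-- Every operator of order `≤ m` is a combination of the dual ones. -/
theorem existsUnique_expansion (hz : Submodule.span B (Set.range fun i => KaehlerDifferential.D A B (z i)) = ⊤)
    (d : Dual A z) (Dp : (ι → ℕ) → (B →ₗ[A] B)) (hd : ∀ p x, d.u p x = linearize A B B B (Dp p) x)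
    (m : ℕ) (D : B →ₗ[A] B) (hD : IsDiffOpLE A B B B m D) :
    ∃! a : {p : ι → ℕ // ∑ i, p i ≤ m} →₀ B, D = a.sum fun p c => c • Dp p.1 := by
  classical
  haveI : Fintype {p : ι → ℕ // ∑ i, p i ≤ m} := (finite_bounded m).fintype
  have hlin : ∀ (a : {p : ι → ℕ // ∑ i, p i ≤ m} →₀ B) (x : B ⊗[A] B),
      linearize A B B B (a.sum fun p c => c • Dp p.1) x = ∑ p, a p * d.u p.1 x := by
    intro a x
    rw [Finsupp.sum_fintype _ _ (fun p => zero_smul B (Dp p.1))]
    induction x using TensorProduct.induction_on with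
    | zero => simp
    | tmul c y =>
      simp only [Groth.Agent.DiffOps.linearize_tmul, LinearMap.sum_apply, LinearMap.smul_apply, smul_eq_mul,
        Finset.mul_sum, hd]
      refine Finset.sum_congr rfl fun p _ => ?_
      ring
    | add x y hx hy => simp only [map_add, hx, hy, mul_add, Finset.sum_add_distrib]
  let uD : B ⊗[A] B →ₗ[B] B :=
    { toFun := linearize A B B B D
      map_add' := map_add _
      map_smul' := fun c x => by
        induction x using TensorProduct.induction_on with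
        | zero => simp
        | tmul a b => simp [TensorProduct.smul_tmul', mul_assoc]
        | add x y hx hy => simp only [smul_add, map_add, hx, hy, RingHom.id_apply] }
  have hev : ∀ (a : {p : ι → ℕ // ∑ i, p i ≤ m} →₀ B) (q : {p : ι → ℕ // ∑ i, p i ≤ m}),
      linearize A B B B (a.sum fun p c => c • Dp p.1) (mon z q.1) = a q := fun a q => by
    rw [hlin]
    simp [d.hu, Subtype.val_inj]
  let a₀ : {p : ι → ℕ // ∑ i, p i ≤ m} →₀ B := Finsupp.equivFunOnFinite.symm fun p => uD (mon z p.1)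
  refine ⟨a₀, ?_, fun a (ha : D = _) => ?_⟩
  · show D = a₀.sum fun p c => c • Dp p.1
    ext x
    have key : ∀ w : B ⊗[A] B, uD w = linearize A B B B (a₀.sum fun p c => c • Dp p.1) w := by
      intro w
      obtain ⟨s, hs, t, ht, rfl⟩ := Submodule.mem_sup.1 (mem_span z hz m 0 (show w ∈ 𝐈 ^ 0 by simp))
      have hb : uD t = 0 := (Groth.Agent.DiffOps.diff_iff_linearize m D).1 hD t ht
      rw [map_add, hb, add_zero, map_add, hlin a₀ t, Finset.sum_eq_zero fun p _ => by
        rw [d.vanish z hz p.1 (Ideal.pow_le_pow_right (by have := p.2; omega) ht), mul_zero], add_zero]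
      induction hs using Submodule.span_induction with
      | mem w hw =>
        obtain ⟨q, hq, rfl⟩ := hw
        rw [hev a₀ ⟨q, hq.2⟩]
        rfl
      | zero => simp
      | add w w' _ _ h h' => simp only [map_add, h, h']
      | smul c w _ h =>
        rw [map_smul, hlin, h, hlin, smul_eq_mul, Finset.mul_sum]
        refine Finset.sum_congr rfl fun p _ => ?_
        rw [map_smul, smul_eq_mul]; ring
    have h := key ((1 : B) ⊗ₜ[A] x)
    simpa [uD] using h
  · ext p
    show a p = uD (mon z p.1)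
    show a p = linearize A B B B D (mon z p.1)
    rw [ha, hev]

end Groth.Agent.PrinParts.Mon
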