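import Groth.Agent.PrinParts.Basic
import Mathlib.RingTheory.MvPolynomial.Basic
import Mathlib.Algebra.MvPolynomial.CommRing

universe u v
open scoped TensorProduct
set_option linter.unusedSectionVars false

namespace Groth.Agent.PrinParts
open PP16 MvPolynomial

variable (n : ℕ) {A : Type u} [CommRing A] {K : Type u} [CommRing K] [Algebra A K] {σ : Type v}

/-- The ideal `(U)^(n+1)` of `K[U]`. -/
noncomputable abbrev truncIdeal (n : ℕ) (K : Type u) [CommRing K] (σ : Type v) : Ideal (MvPolynomial σ K) :=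
  Ideal.span (Set.range (X : σ → MvPolynomial σ K)) ^ (n + 1)

/-- If algebra maps out of `K` are determined by their values on the family `t`, and `t ↦ t + U`
extends to `K`, then `P^n_{K/A} ≅ K[U]/(U)^(n+1)`. -/
theorem exists_equiv (t : σ → K)
    (hext : ∀ {T : Type max u v} [CommRing T] [Algebra A T] (f g : K →ₐ[A] T),
      (∀ i, f (t i) = g (t i)) → f = g)
    (hext' : ∀ f g : K →ₐ[A] P n A K, (∀ i, f (t i) = g (t i)) → f = g)
    (r : K →ₐ[A] MvPolynomial σ K ⧸ truncIdeal n K σ)
    (hr : ∀ i, r (t i) = Ideal.Quotient.mk _ (C (t i) + X i)) :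
    ∃ e : P n A K ≃ₐ[K] MvPolynomial σ K ⧸ truncIdeal n K σ,
      ∀ i, e (dn n A K (t i)) = Ideal.Quotient.mk _ (C (t i) + X i) := by
  let l : K →ₐ[A] MvPolynomial σ K ⧸ truncIdeal n K σ := IsScalarTower.toAlgHom A K _
  let N : Ideal (MvPolynomial σ K ⧸ truncIdeal n K σ) :=
    (Ideal.span (Set.range (X : σ → MvPolynomial σ K))).map (Ideal.Quotient.mk _)
  have hN : N ^ (n + 1) = ⊥ := by rw [← Ideal.map_pow]; exact Ideal.map_quotient_self _
  have h : ∀ b, r b - l b ∈ N := by
    intro b
    have := hext (T := _ ⧸ N) ((Ideal.Quotient.mkₐ A N).comp r) ((Ideal.Quotient.mkₐ A N).comp l) fun i => by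
      change Ideal.Quotient.mk N (r (t i)) = Ideal.Quotient.mk N (Ideal.Quotient.mk _ (C (t i)))
      rw [Ideal.Quotient.eq, hr, ← map_sub, add_sub_cancel_left]
      exact Ideal.mem_map_of_mem _ (Ideal.subset_span ⟨i, rfl⟩)
    exact Ideal.Quotient.eq.1 (AlgHom.congr_fun this b)
  let ψ := desc (n := n) l r N hN h
  let fwd : P n A K →ₐ[K] MvPolynomial σ K ⧸ truncIdeal n K σ :=
    { ψ.toRingHom with commutes' := fun b => desc_algebraMap l r N hN h b }
  have hfwd : ∀ b, fwd (dn n A K b) = r b := fun b => desc_dn l r N hN h b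
  let u : σ → P n A K := fun i => dn n A K (t i) - algebraMap K (P n A K) (t i)
  have hu : Ideal.span (Set.range (X : σ → MvPolynomial σ K)) ≤
      (augIdeal n A K).comap (aeval u) := by
    rw [Ideal.span_le]
    rintro _ ⟨i, rfl⟩
    rw [SetLike.mem_coe, Ideal.mem_comap, aeval_X]
    exact dn_sub_mem n A K (t i)
  have hkill : ∀ x ∈ truncIdeal n K σ, aeval u x = 0 := fun x hx => by
    have := (Ideal.pow_right_mono (n := n + 1) hu).trans (Ideal.le_comap_pow _ _) hx
    rwa [Ideal.mem_comap, augIdeal_pow, Ideal.mem_bot] at this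
  let back : MvPolynomial σ K ⧸ truncIdeal n K σ →ₐ[K] P n A K :=
    Ideal.Quotient.liftₐ _ (aeval u) hkill
  have hback : ∀ i, back (r (t i)) = dn n A K (t i) := fun i => by
    rw [hr]
    change aeval u (C (t i) + X i) = _
    simp [u]
  have h1 : fwd.comp back = AlgHom.id K _ := by
    refine Ideal.Quotient.algHom_ext _ (MvPolynomial.algHom_ext fun i => ?_)
    change fwd (aeval u (X i)) = Ideal.Quotient.mk _ (X i)
    rw [aeval_X, map_sub, hfwd, AlgHom.commutes, hr, map_add]
    exact add_sub_cancel_left _ _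
  have h2 : back.toRingHom.comp fwd.toRingHom = RingHom.id _ := by
    refine ringHom_ext (fun b => ?_) fun b => ?_
    · change back (fwd (algebraMap K _ b)) = algebraMap K _ b
      rw [AlgHom.commutes, AlgHom.commutes]
    · change back (fwd (dn n A K b)) = dn n A K b
      rw [hfwd]
      exact AlgHom.congr_fun (hext' ((back.restrictScalars A).comp r) (dn n A K) hback) b
  exact ⟨AlgEquiv.ofAlgHom fwd back h1 (AlgHom.ext fun x => RingHom.congr_fun h2 x),
    fun i => (hfwd (t i)).trans (hr i)⟩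

end Groth.Agent.PrinParts
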