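import Groth.Agent.PrinParts.Basic

universe u
open scoped TensorProduct
set_option linter.unusedSectionVars false
attribute [local instance] PP16.mapAlgebra PP16.isScalarTower_mapAlgebra

namespace Groth.Agent.PrinParts
open PP16

noncomputable local instance (priority := high) commRingP (n : ℕ) (A B : Type u) [CommRing A] [CommRing B]
    [Algebra A B] : CommRing (P n A B) := Ideal.Quotient.commRing _

variable (n : ℕ) (A B A' B' : Type u) [CommRing A] [CommRing B] [Algebra A B]
  [CommRing A'] [CommRing B'] [Algebra A' B'] [Algebra A A'] [Algebra B B'] [Algebra A B']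
  [IsScalarTower A A' B'] [IsScalarTower A B B']

/-- `P^n_{B'/A'} = P^n_{B/A} ⊗_B B'` as soon as maps out of `B'` are determined by `A'` and `B`
and `B → P^n_{B/A} ⊗_B B'`, `b ↦ dn b ⊗ 1` extends to an `A'`-linear map on `B'`. -/
theorem isPushout_of
    (hext : ∀ {T : Type u} [CommRing T] (f g : B' →+* T),
      (∀ x : A', f (algebraMap A' B' x) = g (algebraMap A' B' x)) →
      (∀ b : B, f (algebraMap B B' b) = g (algebraMap B B' b)) → f = g)
    (r : B' →+* P n A B ⊗[B] B')
    (hrA : ∀ x : A', r (algebraMap A' B' x) = (1 : P n A B) ⊗ₜ[B] algebraMap A' B' x)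
    (hrB : ∀ b : B, r (algebraMap B B' b) = dn n A B b ⊗ₜ[B] (1 : B')) :
    Algebra.IsPushout B (P n A B) B' (P n A' B') := by
  let iR : B' →+* (P n A B ⊗[B] B') := (Algebra.TensorProduct.includeRight : B' →ₐ[B] (P n A B ⊗[B] B')).toRingHom
  let iL : P n A B →+* (P n A B ⊗[B] B') := Algebra.TensorProduct.includeLeftRingHom
  letI algT : Algebra A' (P n A B ⊗[B] B') := @RingHom.toAlgebra A' (P n A B ⊗[B] B') _ Algebra.TensorProduct.instCommSemiring (iR.comp (algebraMap A' B'))
  let l : B' →ₐ[A'] (P n A B ⊗[B] B') := { iR with commutes' := fun _ => rfl }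
  let r' : B' →ₐ[A'] (P n A B ⊗[B] B') := { r with commutes' := hrA }
  let N : Ideal (P n A B ⊗[B] B') := (augIdeal n A B).map iL
  have hN : N ^ (n + 1) = ⊥ := (Ideal.map_pow iL _ _).symm.trans (by rw [augIdeal_pow, Ideal.map_bot])
  have h : ∀ b', r' b' - l b' ∈ N := by
    intro b'
    have he := hext (T := _ ⧸ N) ((Ideal.Quotient.mk N).comp r) ((Ideal.Quotient.mk N).comp iR)
      (fun x => by rw [RingHom.comp_apply, RingHom.comp_apply, hrA]; rfl)
      (fun b => by
        rw [RingHom.comp_apply, RingHom.comp_apply, hrB, Ideal.Quotient.eq]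
        have := Ideal.mem_map_of_mem iL (dn_sub_mem n A B b)
        rw [map_sub] at this
        have h0 : iR (algebraMap B B' b) = iL (algebraMap B (P n A B) b) :=
          (Algebra.TensorProduct.tmul_one_eq_one_tmul (R := B) (A := P n A B) (B := B') b).symm
        rw [h0]
        exact this)
    exact Ideal.Quotient.eq.1 (RingHom.congr_fun he b')
  let ψ := desc (n := n) l r' N hN h
  have hψl : ∀ b', ψ (algebraMap B' _ b') = (1 : P n A B) ⊗ₜ[B] b' := desc_algebraMap l r' N hN h
  have hψr : ∀ b', ψ (dn n A' B' b') = r b' := desc_dn l r' N hN h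
  let φ : (P n A B ⊗[B] B') →ₐ[P n A B] P n A' B' := Algebra.TensorProduct.lift (Algebra.ofId _ _)
    (IsScalarTower.toAlgHom B B' (P n A' B')) fun _ _ => Commute.all _ _
  have hφl : ∀ p, φ (p ⊗ₜ[B] (1 : B')) = PP16.map n A B A' B' p := fun p => by
    rw [Algebra.TensorProduct.lift_tmul, map_one, mul_one]; rfl
  have hφr : ∀ b', φ ((1 : P n A B) ⊗ₜ[B] b') = algebraMap B' (P n A' B') b' := fun b' => by
    rw [Algebra.TensorProduct.lift_tmul, map_one, one_mul]; rfl
  have h1 : ∀ x, φ (ψ x) = x := by
    refine RingHom.congr_fun (ringHom_ext (f := φ.toRingHom.comp ψ.toRingHom) (g := RingHom.id _)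
      (fun b' => ?_) fun b' => ?_)
    · change φ (ψ (algebraMap B' _ b')) = algebraMap B' _ b'
      rw [hψl, hφr]
    · change φ (ψ (dn n A' B' b')) = dn n A' B' b'
      rw [hψr]
      refine RingHom.congr_fun (hext (φ.toRingHom.comp r) (dn n A' B').toRingHom
        (fun x => ?_) fun b => ?_) b'
      · change φ (r _) = dn n A' B' _
        rw [hrA, hφr, AlgHom.commutes, ← IsScalarTower.algebraMap_apply]
      · change φ (r _) = dn n A' B' _
        rw [hrB, hφl, PP16.map_dn]
  have h3 : ∀ p, ψ (PP16.map n A B A' B' p) = p ⊗ₜ[B] (1 : B') := by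
    refine RingHom.congr_fun (ringHom_ext
      (f := ψ.toRingHom.comp (PP16.map n A B A' B').toRingHom) (g := iL) (fun b => ?_) fun b => ?_)
    · simp only [AlgHom.toRingHom_eq_coe, RingHom.coe_comp, RingHom.coe_coe, Function.comp_apply]
      rw [PP16.map_algebraMap, hψl]
      exact (Algebra.TensorProduct.tmul_one_eq_one_tmul b).symm
    · simp only [AlgHom.toRingHom_eq_coe, RingHom.coe_comp, RingHom.coe_coe, Function.comp_apply]
      rw [PP16.map_dn, hψr, hrB]
      rfl
  have h2 : ∀ x, ψ (φ x) = x := fun x => by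
    induction x using TensorProduct.induction_on with
    | zero => simp
    | tmul p b' =>
      have : p ⊗ₜ[B] b' = (p ⊗ₜ[B] (1 : B')) * ((1 : P n A B) ⊗ₜ[B] b') := by
        rw [Algebra.TensorProduct.tmul_mul_tmul, mul_one, one_mul]
      rw [this, map_mul, map_mul, hφl, hφr, h3, hψl]
    | add x y hx hy => rw [map_add, map_add, hx, hy]
  let e : (P n A B ⊗[B] B') ≃ₐ[P n A B] P n A' B' := AlgEquiv.ofBijective φ
    ⟨Function.LeftInverse.injective (g := ψ) h2, Function.RightInverse.surjective (g := ψ) h1⟩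
  let algR : Algebra B' (P n A B ⊗[B] B') := Algebra.TensorProduct.rightAlgebra
  exact Algebra.IsPushout.of_equiv (R := B) (R' := P n A B) (S := B') e (RingHom.ext hφr)

end Groth.Agent.PrinParts
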