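import Groth.Agent.PrinParts.Sym
import Mathlib.RingTheory.MvPolynomial.Ideal
import Mathlib.RingTheory.Smooth.Basic

/-!
# Differential smoothness through Taylor expansions
-/

universe u v
open scoped TensorProduct
open MvPolynomial
set_option linter.unusedSectionVars false

namespace Groth.Agent.PrinParts.Sym
open PP16

section congr

theorem prod_mem {T : Type*} [CommRing T] (J : Ideal T) {ι : Type*} (x : ι → T) (hx : ∀ i, x i ∈ J)
    (s : Finset ι) : ∏ i ∈ s, x i ∈ J ^ s.card := by
  have := Ideal.prod_mem_prod (s := s) (I := fun _ => J) fun i _ => hx i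
  simpa using this

theorem prod_congr_sq {T : Type*} [CommRing T] (J : Ideal T) {ι : Type*} (x y : ι → T)
    (hx : ∀ i, x i ∈ J) (hy : ∀ i, y i ∈ J) (h : ∀ i, x i - y i ∈ J ^ 2) (s : Finset ι) :
    ∏ i ∈ s, x i - ∏ i ∈ s, y i ∈ J ^ (s.card + 1) := by
  classical
  induction s using Finset.induction_on with
  | empty => simp
  | insert a s ha ih =>
    rw [Finset.prod_insert ha, Finset.prod_insert ha, Finset.card_insert_of_notMem ha,
      show x a * ∏ i ∈ s, x i - y a * ∏ i ∈ s, y i =
        (x a - y a) * ∏ i ∈ s, x i + y a * (∏ i ∈ s, x i - ∏ i ∈ s, y i) by ring]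
    refine add_mem ?_ ?_
    · have := Ideal.mul_mem_mul (h a) (prod_mem J x hx s)
      rwa [← pow_add, show 2 + s.card = s.card + 1 + 1 by omega] at this
    · rw [pow_succ' _ (s.card + 1)]
      exact Ideal.mul_mem_mul (hy a) ih

end congr

section taylor

variable (A B : Type u) [CommRing A] [CommRing B] [Algebra A B]

local notation "𝐈" => KaehlerDifferential.ideal A B

/-- Taylor expansions of all orders. -/
structure Taylor (σ : Type v) where
  L : Derivation A B (σ →₀ B)
  r : (σ →₀ B) →ₗ[B] KaehlerDifferential A B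
  hr : ∀ x, r (L x) = KaehlerDifferential.D A B x
  E : ∀ n : ℕ, B →ₐ[A] MvPolynomial σ B ⧸ idealOfVars σ B ^ (n + 1)
  hE : ∀ n x, E n x - Ideal.Quotient.mk _ (C x + lin (L x)) ∈
    (idealOfVars σ B ^ 2).map (Ideal.Quotient.mk (idealOfVars σ B ^ (n + 1)))

variable {A B} {σ : Type v}

theorem lin_mem (v : σ →₀ B) : (lin v : MvPolynomial σ B) ∈ idealOfVars σ B := by
  rw [lin, Finsupp.linearCombination_apply]
  refine sum_mem fun i _ => ?_
  show (v i • X i : MvPolynomial σ B) ∈ _
  rw [smul_eq_C_mul]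
  exact Ideal.mul_mem_left _ _ (Ideal.subset_span ⟨i, rfl⟩)

theorem lin_mem_pow_one (v : σ →₀ B) : (lin v : MvPolynomial σ B) ∈ idealOfVars σ B ^ 1 := by
  rw [pow_one]; exact lin_mem v

theorem homogeneousComponent_congr {n : ℕ} {p q : MvPolynomial σ B}
    (h : p - q ∈ idealOfVars σ B ^ (n + 1)) :
    homogeneousComponent n p = homogeneousComponent n q := by
  classical
  ext d
  rw [coeff_homogeneousComponent, coeff_homogeneousComponent]
  split
  · rename_i hd
    rw [mem_pow_idealOfVars_iff'] at h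
    have := h d (by rw [hd]; omega)
    rwa [coeff_sub, sub_eq_zero] at this
  · rfl

theorem isDiffSmooth_of_taylor (T : Taylor A B σ) : IsDiffSmooth A B := by
  rw [isDiffSmooth_iff]
  let f := T.L.liftKaehlerDifferential
  have hf : ∀ x, f (KaehlerDifferential.D A B x) = T.L x := fun x => T.L.liftKaehlerDifferential_comp_D x
  have hrf : T.r ∘ₗ f = LinearMap.id := LinearMap.ext_on_range (span_D_eq_top A B) fun x => by
    simp [hf, T.hr]
  refine ⟨Module.Projective.of_split f T.r hrf, fun ι _ => ?_⟩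
  set n := Fintype.card ι
  let Q := MvPolynomial σ B ⧸ idealOfVars σ B ^ (n + 1)
  let Λ : B ⊗[A] B →ₐ[B] Q := Algebra.TensorProduct.lift (Algebra.ofId B Q) (T.E n) fun _ _ => Commute.all _ _
  let J : Ideal Q := (idealOfVars σ B).map (Ideal.Quotient.mk _)
  have hΛζ : ∀ x : B, Λ ((1 : B) ⊗ₜ[A] x - x ⊗ₜ[A] (1 : B)) - Ideal.Quotient.mk _ (lin (T.L x)) ∈ J ^ 2 := fun x => by
    rw [map_sub, Algebra.TensorProduct.lift_tmul, Algebra.TensorProduct.lift_tmul, map_one, map_one, one_mul,
      mul_one]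
    have h := T.hE n x
    rw [Ideal.map_pow] at h
    rw [map_add] at h
    convert h using 1
    rw [sub_sub]
    rfl
  have hlinJ : ∀ v : σ →₀ B, Ideal.Quotient.mk (idealOfVars σ B ^ (n + 1)) (lin v) ∈ J := fun v =>
    Ideal.mem_map_of_mem _ (lin_mem v)
  have hζJ : ∀ x : B, Λ ((1 : B) ⊗ₜ[A] x - x ⊗ₜ[A] (1 : B)) ∈ J := fun x => by
    have := add_mem (Ideal.pow_le_self two_ne_zero (hΛζ x)) (hlinJ (T.L x))
    rwa [sub_add_cancel] at this
  have hJn : J ^ (n + 1) = ⊥ := by rw [← Ideal.map_pow, Ideal.map_quotient_self]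
  have hΛI : ∀ y ∈ 𝐈 ^ (n + 1), Λ y = 0 := fun y hy => by
    have hle : (𝐈).map Λ ≤ J := by
      rw [Ideal.map_le_iff_le_comap]; exact ideal_le A B fun b => hζJ b
    have := Ideal.pow_right_mono hle (n + 1) (by rw [← Ideal.map_pow]; exact Ideal.mem_map_of_mem _ hy)
    rwa [hJn, Ideal.mem_bot] at this
  let hc : Q →ₗ[B] MvPolynomial σ B :=
    { toFun := fun q => homogeneousComponent n (Function.surjInv Ideal.Quotient.mk_surjective q)
      map_add' := fun p q => by
        rw [← map_add]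
        refine homogeneousComponent_congr (Ideal.Quotient.eq.1 ?_)
        simp only [map_add, Function.surjInv_eq Ideal.Quotient.mk_surjective]
      map_smul' := fun c q => by
        rw [RingHom.id_apply, ← map_smul]
        refine homogeneousComponent_congr (Ideal.Quotient.eq.1 ?_)
        refine (Function.surjInv_eq Ideal.Quotient.mk_surjective _).trans ?_
        refine (congrArg (c • ·) (Function.surjInv_eq Ideal.Quotient.mk_surjective q).symm).trans ?_
        exact (map_smul (Ideal.Quotient.mkₐ B (idealOfVars σ B ^ (n + 1))) c _).symm }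
  let G0 : ↥((𝐈 ^ n).restrictScalars B) →ₗ[B] MvPolynomial σ B :=
    (hc ∘ₗ Λ.toLinearMap) ∘ₗ ((𝐈 ^ n).restrictScalars B).subtype
  let G : grI A B n →ₗ[B] MvPolynomial σ B := Submodule.liftQ _ G0 fun y hy => by
    show hc (Λ y.1) = 0
    rw [hΛI y.1 hy, map_zero]
  refine bijective_phi_of_detect A B f T.r (LinearMap.congr_fun hrf) G (fun x : B => x)
    (by simpa using span_D_eq_top A B) fun v => ?_
  show hc (Λ (∏ i, ((1 : B) ⊗ₜ[A] v i - v i ⊗ₜ[A] (1 : B)))) = _
  rw [map_prod]
  show homogeneousComponent n _ = _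
  rw [homogeneousComponent_congr (q := ∏ i, lin (T.L (v i))) (Ideal.Quotient.eq.1 ?_),
    homogeneousComponent_of_mem, if_pos rfl]
  · simp only [hf]
  · rw [mem_homogeneousSubmodule]
    simpa [n] using MvPolynomial.IsHomogeneous.prod Finset.univ (fun i => lin (T.L (v i))) (fun _ => 1)
      fun i _ => lin_isHomogeneous _
  · rw [Function.surjInv_eq Ideal.Quotient.mk_surjective, map_prod, ← sub_eq_zero, ← Ideal.mem_bot, ← hJn]
    simpa [n] using prod_congr_sq J (fun i => Λ ((1 : B) ⊗ₜ[A] v i - v i ⊗ₜ[A] (1 : B)))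
      (fun i => Ideal.Quotient.mk _ (lin (T.L (v i)))) (fun i => hζJ _) (fun i => hlinJ _) (fun i => hΛζ _)
      Finset.univ

section summand

variable (f : KaehlerDifferential A B →ₗ[B] (σ →₀ B)) (r : (σ →₀ B) →ₗ[B] KaehlerDifferential A B)

/-- The lifts of the generators. -/
noncomputable def gen (l : σ) : B ⊗[A] B := (lift1 A B (r (Finsupp.single l 1)) : B ⊗[A] B)

/-- The idempotent endomorphism of the polynomial ring. -/
noncomputable def piMap : MvPolynomial σ B →ₐ[B] MvPolynomial σ B :=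
  aeval fun l => lin (f (r (Finsupp.single l 1)))

/-- The map to `B ⊗ B`. -/
noncomputable def phiMap : MvPolynomial σ B →ₐ[B] B ⊗[A] B := (aeval (gen r)).comp (piMap f r)

theorem piMap_lin (v : σ →₀ B) : piMap f r (lin v) = lin (f (r v)) := by
  have : (piMap f r).toLinearMap ∘ₗ lin = lin ∘ₗ f ∘ₗ r := Finsupp.lhom_ext' fun l => LinearMap.ext_ring (by
    simp [piMap, lin])
  exact LinearMap.congr_fun this v

theorem piMap_mem_pow {k : ℕ} {g : MvPolynomial σ B} (hg : g ∈ idealOfVars σ B ^ k) :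
    piMap f r g ∈ idealOfVars σ B ^ k := by
  have hle : (idealOfVars σ B).map (piMap f r) ≤ idealOfVars σ B := by
    rw [idealOfVars, Ideal.map_span, Ideal.span_le]
    rintro _ ⟨_, ⟨l, rfl⟩, rfl⟩
    rw [SetLike.mem_coe, show piMap f r (X l) = _ from aeval_X _ l]
    exact lin_mem _
  have := Ideal.mem_map_of_mem (piMap f r) hg
  rw [Ideal.map_pow] at this
  exact Ideal.pow_right_mono hle k this

theorem phiMap_mem_pow {k : ℕ} {g : MvPolynomial σ B} (hg : g ∈ idealOfVars σ B ^ k) :
    phiMap f r g ∈ 𝐈 ^ k := by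
  have hle : (idealOfVars σ B).map (aeval (gen r)) ≤ 𝐈 := by
    rw [idealOfVars, Ideal.map_span, Ideal.span_le]
    rintro _ ⟨_, ⟨l, rfl⟩, rfl⟩
    rw [SetLike.mem_coe, aeval_X]
    exact (lift1 A B _).2
  have := Ideal.mem_map_of_mem (aeval (gen r)) (piMap_mem_pow f r hg)
  rw [Ideal.map_pow] at this
  exact Ideal.pow_right_mono hle k this

theorem aeval_gen_lin (v : σ →₀ B) : ∃ z : 𝐈, aeval (gen r) (lin v) = (z : B ⊗[A] B) ∧
    KaehlerDifferential.fromIdeal A B z = r v := by
  induction v using Finsupp.induction_linear with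
  | zero => exact ⟨0, by simp, by simp⟩
  | add p q hp hq =>
    obtain ⟨a, ha, ha'⟩ := hp
    obtain ⟨b, hb, hb'⟩ := hq
    exact ⟨a + b, by rw [map_add, map_add, ha, hb]; rfl, by rw [map_add, map_add, ha', hb']⟩
  | single l c =>
    refine ⟨algebraMap B (B ⊗[A] B) c • lift1 A B (r (Finsupp.single l 1)), ?_, ?_⟩
    · simp [lin, gen, Algebra.smul_def]
    · rw [map_smul, fromIdeal_lift1, algebraMap_smul, ← map_smul, Finsupp.smul_single, smul_eq_mul, mul_one]

variable (hrf : ∀ x, r (f x) = x)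
include hrf

theorem piMap_idem (g : MvPolynomial σ B) : piMap f r (piMap f r g) = piMap f r g := by
  have h : (piMap f r).comp (piMap f r) = piMap f r := algHom_ext fun l => by
    show piMap f r (piMap f r (X l)) = piMap f r (X l)
    rw [show piMap f r (X l) = lin (f (r (Finsupp.single l 1))) from aeval_X _ l, piMap_lin, hrf]
  exact AlgHom.congr_fun h g

theorem phiMap_piMap (g : MvPolynomial σ B) : phiMap f r (piMap f r g) = phiMap f r g :=
  congrArg (aeval (gen r)) (piMap_idem f r hrf g)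

theorem phiMap_lin (v : σ →₀ B) : ∃ z : 𝐈, phiMap f r (lin v) = (z : B ⊗[A] B) ∧
    KaehlerDifferential.fromIdeal A B z = r v := by
  obtain ⟨z, hz, hz'⟩ := aeval_gen_lin r (f (r v))
  exact ⟨z, (congrArg (aeval (gen r)) (piMap_lin f r v)).trans hz, hz'.trans (hrf _)⟩

theorem phiMap_step (k : ℕ) {x : B ⊗[A] B} (hx : x ∈ 𝐈 ^ k) :
    ∃ g ∈ idealOfVars σ B ^ k, phiMap f r g - x ∈ 𝐈 ^ (k + 1) := by
  obtain ⟨p, hp, q, hq, rfl⟩ := Submodule.mem_sup.1 (mem_span_prod A B k hx)
  suffices h : ∃ g ∈ idealOfVars σ B ^ k, phiMap f r g - p ∈ 𝐈 ^ (k + 1) by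
    obtain ⟨g, hg, hgp⟩ := h
    exact ⟨g, hg, by rw [← sub_sub]; exact sub_mem hgp hq⟩
  clear hx hq
  induction hp using Submodule.span_induction with
  | mem p hp =>
    obtain ⟨b, rfl⟩ := hp
    refine ⟨∏ i, lin (f (KaehlerDifferential.D A B (b i))), by
      simpa using prod_mem (idealOfVars σ B) _ (fun i => lin_mem (f (KaehlerDifferential.D A B (b i)))) Finset.univ, ?_⟩
    rw [map_prod]
    choose z hz hz' using fun i => phiMap_lin f r hrf (f (KaehlerDifferential.D A B (b i)))
    have := prod_congr_sq 𝐈 (fun i => (z i : B ⊗[A] B)) (fun i => (1 : B) ⊗ₜ[A] b i - b i ⊗ₜ[A] (1 : B))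
      (fun i => (z i).2) (fun i => KaehlerDifferential.one_smul_sub_smul_one_mem_ideal A (b i))
      (fun i => sub_mem_sq A B (y := ⟨_, KaehlerDifferential.one_smul_sub_smul_one_mem_ideal A (b i)⟩)
        ((hz' i).trans (hrf _))) Finset.univ
    simpa [hz] using this
  | zero => exact ⟨0, zero_mem _, by simp⟩
  | add p q _ _ ihp ihq =>
    obtain ⟨g, hg, hgp⟩ := ihp
    obtain ⟨g', hg', hgq⟩ := ihq
    exact ⟨g + g', add_mem hg hg', by rw [map_add, add_sub_add_comm]; exact add_mem hgp hgq⟩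
  | smul c p _ ihp =>
    obtain ⟨g, hg, hgp⟩ := ihp
    exact ⟨c • g, Submodule.smul_of_tower_mem _ c hg, by
      rw [map_smul, ← smul_sub]; exact Submodule.smul_of_tower_mem _ c hgp⟩

theorem phiMap_surj (n : ℕ) : ∀ k, ∀ x ∈ 𝐈 ^ k,
    ∃ g ∈ idealOfVars σ B ^ k, phiMap f r g - x ∈ 𝐈 ^ (n + 1) := by
  intro k
  induction hj : n + 1 - k using Nat.strong_induction_on generalizing k with
  | _ j ih =>
    intro x hx
    rcases Nat.lt_or_ge n k with hk | hk
    · exact ⟨0, zero_mem _, by rw [map_zero, zero_sub]; exact neg_mem (Ideal.pow_le_pow_right hk hx)⟩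
    · obtain ⟨g, hg, hgx⟩ := phiMap_step f r hrf k hx
      obtain ⟨g', hg', hgx'⟩ := ih (n + 1 - (k + 1)) (by omega) (k + 1) rfl (x - phiMap f r g) (by
        rw [← neg_sub]; exact neg_mem hgx)
      refine ⟨g + g', add_mem hg (Ideal.pow_le_pow_right (Nat.le_succ k) hg'), ?_⟩
      rw [map_add, show phiMap f r g + phiMap f r g' - x = phiMap f r g' - (x - phiMap f r g) by ring]
      exact hgx'

theorem exists_sym_monomial {k : ℕ} {d : σ →₀ ℕ} (hdeg : Multiset.card d.toMultiset = k) (c : B) :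
    ∃ t : SymmetricPower B (ULift.{u} (Fin k)) (KaehlerDifferential A B),
      symPoly f t = piMap f r (monomial d c) ∧
        ∀ hx, phi A B t = cls A B _ (phiMap f r (monomial d c)) hx := by
  classical
  have hdk : d.toMultiset.toList.length = k := by rw [Multiset.length_toList, hdeg]
  let w : ULift.{u} (Fin k) → σ := fun i => d.toMultiset.toList[i.down.1]'(by omega)
  have hw : monomial d c = c • ∏ i, (X (w i) : MvPolynomial σ B) := by
    rw [show ∏ i, (X (w i) : MvPolynomial σ B) = (d.toMultiset.toList.map X).prod from by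
      subst hdk
      rw [← Equiv.prod_comp Equiv.ulift.{u}.symm, ← Fin.prod_univ_fun_getElem]
      rfl]
    rw [← Multiset.prod_coe, ← Multiset.map_coe, Multiset.coe_toList, Finsupp.toMultiset_map,
      Finsupp.prod_toMultiset, monomial_eq, smul_eq_C_mul]
    congr 1
    rw [Finsupp.prod_mapDomain_index (by simp) fun _ _ _ => pow_add _ _ _]
  refine ⟨c • SymmetricPower.tprod B fun i => r (Finsupp.single (w i) 1), ?_, fun hx => ?_⟩
  · rw [map_smul, symPoly_tprod, hw, map_smul, map_prod]
    rw [Finset.prod_congr rfl fun i _ => (show piMap f r (X (w i)) =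
      lin (f (r (Finsupp.single (w i) 1))) from aeval_X _ _)]
  · choose z hz hz' using fun i : ULift.{u} (Fin k) => phiMap_lin f r hrf (Finsupp.single (w i) 1)
    have hlinX : ∀ l : σ, (lin (Finsupp.single l (1 : B)) : MvPolynomial σ B) = X l := fun l => by simp [lin]
    simp only [hlinX] at hz
    have hp : ∏ i, (z i : B ⊗[A] B) ∈ 𝐈 ^ Fintype.card (ULift.{u} (Fin k)) :=
      prod_mem 𝐈 (fun i => (z i : B ⊗[A] B)) (fun i => (z i).2) Finset.univ
    rw [map_smul, show phi A B (SymmetricPower.tprod B fun i => r (Finsupp.single (w i) 1)) =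
      prodCls A B (fun i => r (Finsupp.single (w i) 1)) from symLift_tprod _ _ _, prodCls_eq A B _ z hz' hp,
      cls_smul]
    refine (cls_eq A B).2 ?_
    rw [hw, map_smul, map_prod, Finset.prod_congr rfl fun i _ => hz i, Algebra.smul_def, sub_self]
    exact zero_mem _

theorem exists_sym {k : ℕ} {g : MvPolynomial σ B} (hg : g.IsHomogeneous k) :
    ∃ t : SymmetricPower B (ULift.{u} (Fin k)) (KaehlerDifferential A B),
      symPoly f t = piMap f r g ∧ ∀ hx, phi A B t = cls A B _ (phiMap f r g) hx := by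
  classical
  have hcard : ∀ d ∈ g.support, Multiset.card d.toMultiset = k := fun d hd => by
    rw [Finsupp.card_toMultiset, ← hg (mem_support_iff.1 hd)]
    simp only [Finsupp.weight_apply, Pi.one_apply, smul_eq_mul, mul_one]; rfl
  suffices h : ∀ s ⊆ g.support,
      ∃ t : SymmetricPower B (ULift.{u} (Fin k)) (KaehlerDifferential A B),
        symPoly f t = piMap f r (∑ d ∈ s, monomial d (coeff d g)) ∧
          (∑ d ∈ s, monomial d (coeff d g)) ∈ idealOfVars σ B ^ k ∧
          ∀ hx, phi A B t = cls A B _ (phiMap f r (∑ d ∈ s, monomial d (coeff d g))) hx by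
    obtain ⟨t, ht, -, ht'⟩ := h g.support subset_rfl
    rw [← g.as_sum] at ht
    refine ⟨t, ht, fun hx => (ht' (by rw [← g.as_sum]; exact hx)).trans ((cls_eq A B).2 ?_)⟩
    rw [← g.as_sum, sub_self]
    exact zero_mem _
  intro s
  induction s using Finset.induction_on with
  | empty => intro _; exact ⟨0, by simp, by simp, fun hx => (map_zero _).trans ((cls_eq A B (hx := zero_mem _)).2 (by simp))⟩
  | insert a s ha ih =>
    intro hs
    obtain ⟨t, ht, hmem, ht'⟩ := ih ((Finset.subset_insert a s).trans hs)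
    have haS : a ∈ g.support := hs (Finset.mem_insert_self a s)
    obtain ⟨t₀, h₀, h₀'⟩ := exists_sym_monomial f r hrf (hcard a haS) (coeff a g)
    have hma : monomial a (coeff a g) ∈ idealOfVars σ B ^ k := by
      rw [monomial_mem_pow_idealOfVars_iff _ _ (mem_support_iff.1 haS), ← hcard a haS, Finsupp.card_toMultiset]
      exact le_of_eq rfl
    have hk : Fintype.card (ULift.{u} (Fin k)) = k := by simp
    have hx₀ : phiMap f r (monomial a (coeff a g)) ∈ 𝐈 ^ Fintype.card (ULift.{u} (Fin k)) := by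
      rw [hk]; exact phiMap_mem_pow f r hma
    have hx₁ : phiMap f r (∑ d ∈ s, monomial d (coeff d g)) ∈ 𝐈 ^ Fintype.card (ULift.{u} (Fin k)) := by
      rw [hk]; exact phiMap_mem_pow f r hmem
    refine ⟨t₀ + t, by rw [Finset.sum_insert ha, map_add, map_add, h₀, ht],
      by rw [Finset.sum_insert ha]; exact add_mem hma hmem, fun hx => ?_⟩
    rw [map_add, h₀' hx₀, ht' hx₁, cls_add]
    refine (cls_eq A B).2 ?_
    rw [Finset.sum_insert ha, map_add, sub_self]
    exact zero_mem _

theorem piMap_mem_of_phiMap_mem (hφ : ∀ (ι : Type u) [Fintype ι], Function.Bijective (phi A B (ι := ι)))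
    (n : ℕ) {g : MvPolynomial σ B} (hg : phiMap f r g ∈ 𝐈 ^ (n + 1)) :
    piMap f r g ∈ idealOfVars σ B ^ (n + 1) := by
  classical
  suffices ∀ k ≤ n + 1, piMap f r g ∈ idealOfVars σ B ^ k from this _ le_rfl
  intro k hk
  induction k with
  | zero => simp
  | succ k ih =>
    have hgk := ih (by omega)
    set h := homogeneousComponent k (piMap f r g) with hh
    have hhom : h.IsHomogeneous k := homogeneousComponent_isHomogeneous _ _
    have hdiff : piMap f r g - h ∈ idealOfVars σ B ^ (k + 1) := by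
      rw [mem_pow_idealOfVars_iff'] at hgk ⊢
      intro d hd
      rw [coeff_sub, hh, coeff_homogeneousComponent]
      split
      · exact sub_self _
      · rw [sub_zero]; exact hgk d (by omega)
    obtain ⟨t, ht, ht'⟩ := exists_sym f r hrf hhom
    have hπh : piMap f r h = h := by
      have h2 := piMap_mem_pow f r hdiff
      rw [map_sub, piMap_idem f r hrf] at h2
      have h3 := sub_mem hdiff h2
      rw [sub_sub_sub_cancel_left] at h3
      have h4 := homogeneousComponent_congr h3
      rw [homogeneousComponent_of_mem hhom, if_pos rfl,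
        homogeneousComponent_of_mem (show piMap f r h ∈ homogeneousSubmodule σ B k from ht ▸ by
          simpa using symPoly_isHomogeneous f t), if_pos rfl] at h4
      exact h4
    have hΦh : phiMap f r h ∈ 𝐈 ^ (k + 1) := by
      have h2 := phiMap_mem_pow f r hdiff
      rw [map_sub, phiMap_piMap f r hrf] at h2
      have := sub_mem (Ideal.pow_le_pow_right (by omega : k + 1 ≤ n + 1) hg) h2
      rwa [sub_sub_cancel] at this
    have hk : Fintype.card (ULift.{u} (Fin k)) = k := by simp
    have hx : phiMap f r h ∈ 𝐈 ^ Fintype.card (ULift.{u} (Fin k)) := by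
      rw [hk]; exact Ideal.pow_le_pow_right (Nat.le_succ k) hΦh
    have ht0 : t = 0 := (hφ _).1 (by
      rw [ht' hx, map_zero]
      refine (cls_eq A B (hy := zero_mem _)).2 ?_
      rw [sub_zero, hk]
      exact hΦh)
    rw [ht0, map_zero, hπh] at ht
    rwa [← ht, sub_zero] at hdiff

/-- Truncated algebra maps from the principal parts. -/
theorem exists_expansion (hφ : ∀ (ι : Type u) [Fintype ι], Function.Bijective (phi A B (ι := ι))) (n : ℕ) :
    ∃ E : B →ₐ[A] MvPolynomial σ B ⧸ idealOfVars σ B ^ (n + 1), ∀ x,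
      E x - Ideal.Quotient.mk _ (C x + lin (f (KaehlerDifferential.D A B x))) ∈
        (idealOfVars σ B ^ 2).map (Ideal.Quotient.mk (idealOfVars σ B ^ (n + 1))) := by
  let F : MvPolynomial σ B →ₐ[A] P n A B :=
    (Ideal.Quotient.mkₐ A _).comp ((phiMap f r).restrictScalars A)
  let M : MvPolynomial σ B →ₐ[A] MvPolynomial σ B ⧸ idealOfVars σ B ^ (n + 1) :=
    (Ideal.Quotient.mkₐ A _).comp ((piMap f r).restrictScalars A)
  have hFs : Function.Surjective F.toRingHom := fun p => by
    obtain ⟨p, rfl⟩ := Ideal.Quotient.mk_surjective p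
    obtain ⟨g, -, hg⟩ := phiMap_surj f r hrf n 0 p (by simp)
    exact ⟨g, Ideal.Quotient.eq.2 hg⟩
  have hker : RingHom.ker F.toRingHom ≤ RingHom.ker M.toRingHom := fun g hg =>
    Ideal.Quotient.eq_zero_iff_mem.2
      (piMap_mem_of_phiMap_mem f r hrf hφ n (Ideal.Quotient.eq_zero_iff_mem.1 hg))
  let E₀ : P n A B →+* MvPolynomial σ B ⧸ idealOfVars σ B ^ (n + 1) :=
    RingHom.liftOfSurjective F.toRingHom hFs ⟨M.toRingHom, hker⟩
  have hE₀ : ∀ g, E₀ (F g) = M g := fun g =>
    RingHom.liftOfSurjective_comp_apply F.toRingHom hFs ⟨M.toRingHom, hker⟩ g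
  refine ⟨{ E₀.comp (dn n A B).toRingHom with
      commutes' := fun a => by
        show E₀ (dn n A B (algebraMap A B a)) = _
        rw [AlgHom.commutes, ← F.commutes, hE₀, M.commutes] }, fun x => ?_⟩
  obtain ⟨z, hz, hz'⟩ := phiMap_lin f r hrf (f (KaehlerDifferential.D A B x))
  have hζ := KaehlerDifferential.one_smul_sub_smul_one_mem_ideal A x
  have hsq : (1 : B) ⊗ₜ[A] x - x ⊗ₜ[A] (1 : B) - z ∈ 𝐈 ^ 2 :=
    sub_mem_sq A B (x := ⟨_, hζ⟩) (Eq.trans rfl (hz'.trans (hrf _)).symm)
  obtain ⟨g₂, hg₂, hg⟩ := phiMap_surj f r hrf n 2 _ hsq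
  show E₀ (dn n A B x) - _ ∈ _
  have hdn : dn n A B x = F (C x + lin (f (KaehlerDifferential.D A B x)) + g₂) := by
    refine Ideal.Quotient.eq.2 ?_
    show (1 : B) ⊗ₜ[A] x - phiMap f r (C x + lin (f (KaehlerDifferential.D A B x)) + g₂) ∈ _
    rw [map_add, map_add, hz, show phiMap f r (C x) = x ⊗ₜ[A] (1 : B) from (phiMap f r).commutes x, ← neg_sub]
    refine neg_mem ?_
    convert hg using 1
    abel
  rw [hdn, hE₀]
  show Ideal.Quotient.mk _ (piMap f r _) - Ideal.Quotient.mk _ _ ∈ _
  rw [map_add (piMap f r), map_add (piMap f r), piMap_lin, hrf,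
    show piMap f r (C x) = C x from (piMap f r).commutes x, ← map_sub, add_sub_cancel_left]
  exact Ideal.mem_map_of_mem _ (piMap_mem_pow f r hg₂)

end summand

/-- A differentially smooth algebra has Taylor expansions, for any presentation of `Ω` as a direct summand. -/
theorem exists_taylor_of_isDiffSmooth (h : IsDiffSmooth A B) (f : KaehlerDifferential A B →ₗ[B] (σ →₀ B))
    (r : (σ →₀ B) →ₗ[B] KaehlerDifferential A B) (hrf : ∀ x, r (f x) = x) :
    ∃ T : Taylor A B σ, (∀ x, T.L x = f (KaehlerDifferential.D A B x)) ∧ T.r = r := by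
  choose E hE using exists_expansion f r hrf ((isDiffSmooth_iff A B).1 h).2
  exact ⟨⟨f.compDer (KaehlerDifferential.D A B), r, fun x => hrf _, E, hE⟩, fun x => rfl, rfl⟩

end taylor

end Groth.Agent.PrinParts.Sym
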