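import Groth.Agent.PrinParts.Smooth
import Mathlib.RingTheory.Finiteness.Descent
import Mathlib.RingTheory.Flat.FaithfullyFlat.Algebra
import Mathlib.RingTheory.Kaehler.TensorProduct
import Mathlib.RingTheory.Flat.EquationalCriterion
import Mathlib.LinearAlgebra.TensorProduct.RightExactness

/-!
# Differential smoothness: formally smooth algebras, base change, descent, characteristic zero
-/

universe u v
open scoped TensorProduct
open MvPolynomial PP16
set_option linter.unusedSectionVars false

namespace Groth.Agent.PrinParts.Sym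

variable {A B : Type u} [CommRing A] [CommRing B] [Algebra A B] {σ : Type v}

theorem sq_map_eq_bot_of_zero :
    (idealOfVars σ B ^ 2).map (Ideal.Quotient.mk (idealOfVars σ B ^ (0 + 1))) = ⊥ := by
  rw [Ideal.map_eq_bot_iff_le_ker, Ideal.mk_ker]
  exact Ideal.pow_le_pow_right (by omega)

theorem mk_lin_eq_zero (v : σ →₀ B) : Ideal.Quotient.mk (idealOfVars σ B ^ (0 + 1)) (lin v) = 0 :=
  Ideal.Quotient.eq_zero_iff_mem.2 (by rw [zero_add]; exact lin_mem_pow_one v)

/-- The first order expansion of a derivation. -/
noncomputable def firstOrder (L : Derivation A B (σ →₀ B)) : B →ₐ[A] MvPolynomial σ B ⧸ idealOfVars σ B ^ 2 where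
  toFun x := Ideal.Quotient.mk _ (C x + lin (L x))
  map_one' := by simp
  map_zero' := by simp
  map_add' x y := by simp only [map_add]; abel
  commutes' a := by
    simp only [Derivation.map_algebraMap, map_zero, add_zero]
    rfl
  map_mul' x y := by
    rw [← map_mul, Ideal.Quotient.eq, Derivation.leibniz, map_add, map_smul, map_smul, MvPolynomial.smul_eq_C_mul,
      MvPolynomial.smul_eq_C_mul, map_mul]
    have h : lin (L x) * lin (L y) ∈ idealOfVars σ B ^ 2 := by
      rw [pow_two]; exact Ideal.mul_mem_mul (lin_mem _) (lin_mem _)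
    convert neg_mem h using 1
    ring

theorem isDiffSmooth_of_formallySmooth [Algebra.FormallySmooth A B] : IsDiffSmooth A B := by
  obtain ⟨s, hs⟩ := (inferInstance : Module.Projective B (KaehlerDifferential A B)).out
  let L : Derivation A B (KaehlerDifferential A B →₀ B) := s.compDer (KaehlerDifferential.D A B)
  have hE : ∀ n, ∃ E : B →ₐ[A] MvPolynomial (KaehlerDifferential A B) B ⧸ idealOfVars _ B ^ (n + 1),
      ∀ x, E x - Ideal.Quotient.mk _ (C x + lin (L x)) ∈
        (idealOfVars _ B ^ 2).map (Ideal.Quotient.mk (idealOfVars (KaehlerDifferential A B) B ^ (n + 1))) := by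
    intro n
    rcases n with _ | n
    · refine ⟨(Ideal.Quotient.mkₐ A _).comp (IsScalarTower.toAlgHom A B _), fun x => ?_⟩
      rw [map_add, mk_lin_eq_zero, add_zero, AlgHom.comp_apply, IsScalarTower.toAlgHom_apply,
        MvPolynomial.algebraMap_eq, Ideal.Quotient.mkₐ_eq_mk, sub_self]
      exact zero_mem _
    · let g : MvPolynomial (KaehlerDifferential A B) B ⧸ idealOfVars _ B ^ (n + 1 + 1) →ₐ[A]
          MvPolynomial (KaehlerDifferential A B) B ⧸ idealOfVars _ B ^ 2 :=
        Ideal.Quotient.factorₐ A (Ideal.pow_le_pow_right (by omega))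
      have hgs : Function.Surjective g := fun y => by
        obtain ⟨y, rfl⟩ := Ideal.Quotient.mk_surjective y
        exact ⟨Ideal.Quotient.mk _ y, rfl⟩
      have hker : RingHom.ker g.toRingHom ≤ (idealOfVars _ B ^ 2).map
          (Ideal.Quotient.mk (idealOfVars (KaehlerDifferential A B) B ^ (n + 1 + 1))) := fun y hy => by
        obtain ⟨y, rfl⟩ := Ideal.Quotient.mk_surjective y
        exact Ideal.mem_map_of_mem _ (Ideal.Quotient.eq_zero_iff_mem.1 hy)
      have hnil : IsNilpotent (RingHom.ker g.toRingHom) := by
        refine ⟨n + 1 + 1, le_bot_iff.1 ((Ideal.pow_right_mono hker _).trans ?_)⟩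
        rw [← Ideal.map_pow, ← pow_mul, Ideal.map_le_iff_le_comap, ← RingHom.ker, Ideal.mk_ker]
        exact Ideal.pow_le_pow_right (by omega)
      refine ⟨Algebra.FormallySmooth.liftOfSurjective (firstOrder L) g hgs hnil, fun x => hker ?_⟩
      show g (_ - _) = 0
      exact (map_sub g _ _).trans (sub_eq_zero.2 (Algebra.FormallySmooth.liftOfSurjective_apply _ g hgs hnil x))
  choose E hE' using hE
  exact isDiffSmooth_of_taylor ⟨L, Finsupp.linearCombination B id, fun x => hs _, E, hE'⟩

section baseChange

variable (A' B' : Type u) [CommRing A'] [CommRing B'] [Algebra A' B'] [Algebra A A'] [Algebra B B']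
  [Algebra A B'] [IsScalarTower A A' B'] [IsScalarTower A B B'] [Algebra.IsPushout A B A' B']

/-- Base change of the coefficient module. -/
noncomputable def mapCoeff : (σ →₀ B) →ₗ[B] (σ →₀ B') :=
  Finsupp.mapRange.linearMap (Algebra.linearMap B B')

theorem map_lin (v : σ →₀ B) :
    MvPolynomial.map (algebraMap B B') (lin v) = lin (mapCoeff B' v) := by
  induction v using Finsupp.induction_linear with
  | zero => simp
  | add p q hp hq => simp [map_add, hp, hq]
  | single l c => simp [lin, mapCoeff, MvPolynomial.smul_eq_C_mul, Algebra.smul_def]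

theorem map_idealOfVars_le (k : ℕ) :
    (idealOfVars σ B ^ k).map (MvPolynomial.map (algebraMap B B')) ≤ idealOfVars σ B' ^ k := by
  rw [Ideal.map_pow]
  refine Ideal.pow_right_mono ?_ k
  rw [idealOfVars, Ideal.map_span, Ideal.span_le]
  rintro _ ⟨_, ⟨l, rfl⟩, rfl⟩
  rw [SetLike.mem_coe, MvPolynomial.map_X]
  exact Ideal.subset_span ⟨l, rfl⟩

theorem isDiffSmooth_baseChange (h : IsDiffSmooth A B) : IsDiffSmooth A' B' := by
  obtain ⟨s, hs⟩ := h.1.out
  obtain ⟨T, hTL, hTr⟩ := exists_taylor_of_isDiffSmooth h s (Finsupp.linearCombination B id) hs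
  let Q : ℕ → Type u := fun n => MvPolynomial (KaehlerDifferential A B) B' ⧸
    idealOfVars (KaehlerDifferential A B) B' ^ (n + 1)
  -- the expansions over `B`, pushed to `B'`
  let tr : ∀ n, MvPolynomial (KaehlerDifferential A B) B ⧸ idealOfVars _ B ^ (n + 1) →+* Q n := fun n =>
    Ideal.quotientMap _ (MvPolynomial.map (algebraMap B B')) (Ideal.map_le_iff_le_comap.1 (map_idealOfVars_le B' _))
  let f₁ : ∀ n, B →ₐ[A] Q n := fun n =>
    { (tr n).comp (T.E n).toRingHom with
      commutes' := fun a => by
        show tr n (T.E n (algebraMap A B a)) = _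
        rw [AlgHom.commutes]
        show Ideal.Quotient.mk _ (MvPolynomial.map (algebraMap B B') (C (algebraMap A B a))) =
          Ideal.Quotient.mk _ (C (algebraMap A B' a))
        rw [MvPolynomial.map_C, ← IsScalarTower.algebraMap_apply] }
  let f₂ : ∀ n, A' →ₐ[A] Q n := fun n => IsScalarTower.toAlgHom A A' (Q n)
  let E₁ : ∀ n, B' →ₐ[A] Q n := fun n => Algebra.pushoutDesc B' (f₁ n) (f₂ n) (fun _ _ => mul_comm _ _)
  let E' : ∀ n, B' →ₐ[A'] Q n := fun n =>
    { (E₁ n).toRingHom with
      commutes' := fun a => by
        show E₁ n (algebraMap A' B' a) = _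
        rw [Algebra.pushoutDesc_right] <;> rfl }
  have hEB : ∀ n b, E' n (algebraMap B B' b) = tr n (T.E n b) := fun n b =>
    Algebra.pushoutDesc_left B' (f₁ n) (f₂ n) (fun _ _ => mul_comm _ _) b
  -- the derivation
  let coeffLin : MvPolynomial (KaehlerDifferential A B) B' → (KaehlerDifferential A B →₀ B') := fun p =>
    Finsupp.comapDomain (fun l => Finsupp.single l 1) (Finsupp.onFinset p.support (fun d => p.coeff d)
      fun d hd => MvPolynomial.mem_support_iff.2 hd)
      (fun a _ b _ hab => Finsupp.single_left_injective one_ne_zero hab)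
  have hcoeff : ∀ p l, coeffLin p l = p.coeff (Finsupp.single l 1) := fun p l => rfl
  have hwd : ∀ p q, p - q ∈ idealOfVars (KaehlerDifferential A B) B' ^ (1 + 1) → coeffLin p = coeffLin q := by
    intro p q hpq
    ext l
    rw [MvPolynomial.mem_pow_idealOfVars_iff'] at hpq
    have := hpq (Finsupp.single l 1) (by simp)
    rwa [coeff_sub, sub_eq_zero] at this
  let cl : Q 1 → (KaehlerDifferential A B →₀ B') := fun q =>
    coeffLin (Function.surjInv Ideal.Quotient.mk_surjective q)
  have hcl : ∀ p, cl (Ideal.Quotient.mk _ p) = coeffLin p := fun p =>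
    hwd _ _ (Ideal.Quotient.eq.1 (Function.surjInv_eq Ideal.Quotient.mk_surjective _))
  have hcllin : ∀ c v, cl (Ideal.Quotient.mk _ (C c + lin v)) = v := fun c v => by
    rw [hcl]
    ext l
    classical
    rw [hcoeff, coeff_add, MvPolynomial.coeff_C, if_neg (by simp [eq_comm]), zero_add, lin,
      Finsupp.linearCombination_apply, Finsupp.sum, MvPolynomial.coeff_sum]
    simp [MvPolynomial.coeff_smul, MvPolynomial.coeff_X', Finsupp.single_eq_single_iff, eq_comm]
  have hE1 : ∀ x, ∃ v, E' 1 x = Ideal.Quotient.mk _ (C x + lin v) := by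
    intro x
    induction x using (Algebra.IsPushout.out (R := A) (S := B) (R' := A') (S' := B')).inductionOn with
    | zero => exact ⟨0, by simp⟩
    | tmul a =>
      refine ⟨0, ?_⟩
      rw [show ((IsScalarTower.toAlgHom A A' B').toLinearMap a) = algebraMap A' B' a from rfl, AlgHom.commutes,
        map_zero, add_zero]
      rfl
    | smul c y hy =>
      obtain ⟨w, hw⟩ := hy
      refine ⟨algebraMap B B' c • w + y • mapCoeff B' (T.L c), ?_⟩
      rw [Algebra.smul_def, map_mul, hEB, hw]
      have h1 : T.E 1 c = Ideal.Quotient.mk _ (C c + lin (T.L c)) := by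
        have := T.hE 1 c
        rw [Ideal.map_quotient_self, Ideal.mem_bot, sub_eq_zero] at this
        exact this
      rw [h1]
      show Ideal.Quotient.mk _ (MvPolynomial.map (algebraMap B B') _) * _ = _
      rw [← map_mul, Ideal.Quotient.eq, map_add, MvPolynomial.map_C, map_lin, map_add, map_smul lin, map_smul lin,
        MvPolynomial.smul_eq_C_mul, MvPolynomial.smul_eq_C_mul, map_mul]
      have h : lin (mapCoeff B' (T.L c)) * lin w ∈ idealOfVars (KaehlerDifferential A B) B' ^ (1 + 1) := by
        rw [pow_succ, pow_one]; exact Ideal.mul_mem_mul (lin_mem _) (lin_mem _)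
      convert h using 1
      ring
    | add y z hy hz =>
      obtain ⟨v, hv⟩ := hy
      obtain ⟨w, hw⟩ := hz
      exact ⟨v + w, by rw [map_add, hv, hw, ← map_add]; congr 1; simp only [map_add]; abel⟩
  choose v hv using hE1
  have hvadd : ∀ x y, v (x + y) = v x + v y := fun x y => by
    have h := congrArg cl (hv (x + y))
    rw [hcllin, map_add, hv, hv, ← map_add, show C x + lin (v x) + (C y + lin (v y)) =
      C (x + y) + lin (v x + v y) by simp only [map_add]; abel, hcllin] at h
    exact h.symm
  let L' : Derivation A' B' (KaehlerDifferential A B →₀ B') :=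
    { toFun := v
      map_add' := hvadd
      map_smul' := fun a x => by
        have h := congrArg cl (hv (a • x))
        rw [hcllin, map_smul, hv, ← Ideal.Quotient.mkₐ_eq_mk A', ← map_smul, Ideal.Quotient.mkₐ_eq_mk, smul_add,
          ← IsScalarTower.algebraMap_smul B' a (lin (v x)), ← map_smul lin,
          show a • (C x : MvPolynomial (KaehlerDifferential A B) B') = C (a • x) from by
            rw [Algebra.smul_def, Algebra.smul_def, map_mul]; rfl, hcllin, IsScalarTower.algebraMap_smul] at h
        exact h.symm
      map_one_eq_zero' := by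
        have h := congrArg cl (hv 1)
        rw [hcllin, map_one] at h
        rw [← map_one (Ideal.Quotient.mk _), show (1 : MvPolynomial (KaehlerDifferential A B) B') = C 1 + lin 0 by simp,
          hcllin] at h
        exact h.symm
      leibniz' := fun x y => by
        have h := congrArg cl (hv (x * y))
        rw [hcllin, map_mul, hv, hv, ← map_mul, hcl, hwd _ (C (x * y) + lin (x • v y + y • v x)), ← hcl, hcllin] at h
        · exact h.symm
        · have hmem : lin (v x) * lin (v y) ∈ idealOfVars (KaehlerDifferential A B) B' ^ (1 + 1) := by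
            rw [pow_succ, pow_one]; exact Ideal.mul_mem_mul (lin_mem _) (lin_mem _)
          convert hmem using 1
          simp only [map_add, map_smul, MvPolynomial.smul_eq_C_mul, map_mul]
          ring }
  have hL'B : ∀ b, L' (algebraMap B B' b) = mapCoeff B' (T.L b) := fun b => by
    show v _ = _
    have h := congrArg cl (hv (algebraMap B B' b))
    have h1 : T.E 1 b = Ideal.Quotient.mk _ (C b + lin (T.L b)) := by
      have := T.hE 1 b
      rw [Ideal.map_quotient_self, Ideal.mem_bot, sub_eq_zero] at this
      exact this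
    rw [hcllin, hEB, h1] at h
    rw [← h]
    show cl (Ideal.Quotient.mk _ (MvPolynomial.map (algebraMap B B') _)) = _
    rw [map_add, MvPolynomial.map_C, map_lin, hcllin]
  let m : KaehlerDifferential A B →ₗ[B] KaehlerDifferential A' B' := KaehlerDifferential.map A A' B B'
  let r' : (KaehlerDifferential A B →₀ B') →ₗ[B'] KaehlerDifferential A' B' :=
    Finsupp.linearCombination B' fun l => m l
  have hr'map : ∀ w, r' (mapCoeff B' w) = m (Finsupp.linearCombination B id w) := fun w => by
    induction w using Finsupp.induction_linear with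
    | zero => simp
    | add p q hp hq => simp only [map_add, hp, hq]
    | single l c => simp [r', mapCoeff]
  have hr' : ∀ x, r' (L' x) = KaehlerDifferential.D A' B' x := by
    intro x
    induction x using (Algebra.IsPushout.out (R := A) (S := B) (R' := A') (S' := B')).inductionOn with
    | zero => simp
    | tmul a =>
      rw [show ((IsScalarTower.toAlgHom A A' B').toLinearMap a) = algebraMap A' B' a from rfl,
        Derivation.map_algebraMap, map_zero, Derivation.map_algebraMap]
    | smul c y hy =>
      rw [Algebra.smul_def, Derivation.leibniz, map_add, map_smul, map_smul, hy, Derivation.leibniz, hL'B, hr'map,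
        ← hTr, T.hr, KaehlerDifferential.map_D]
    | add y z hy hz => simp only [map_add, hy, hz]
  refine isDiffSmooth_of_taylor ⟨L', r', hr', E', fun n x => ?_⟩
  let J2 := (idealOfVars (KaehlerDifferential A B) B' ^ 2).map
    (Ideal.Quotient.mk (idealOfVars (KaehlerDifferential A B) B' ^ (n + 1)))
  show E' n x - Ideal.Quotient.mk _ (C x + lin (L' x)) ∈ J2
  induction x using (Algebra.IsPushout.out (R := A) (S := B) (R' := A') (S' := B')).inductionOn with
  | zero => simp
  | tmul a =>
    rw [show ((IsScalarTower.toAlgHom A A' B').toLinearMap a) = algebraMap A' B' a from rfl,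
      Derivation.map_algebraMap, map_zero, add_zero, AlgHom.commutes]
    rw [show algebraMap A' (Q n) a = Ideal.Quotient.mk _ (C (algebraMap A' B' a)) from rfl, sub_self]
    exact zero_mem _
  | smul c y hy =>
    rw [Algebra.smul_def, map_mul, hEB, Derivation.leibniz, hL'B]
    have hc : tr n (T.E n c) - Ideal.Quotient.mk _ (C (algebraMap B B' c) + lin (mapCoeff B' (T.L c))) ∈ J2 := by
      have h1 := Ideal.mem_map_of_mem (tr n) (T.hE n c)
      rw [map_sub, Ideal.map_map] at h1
      rw [show C (algebraMap B B' c) + lin (mapCoeff B' (T.L c)) =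
        MvPolynomial.map (algebraMap B B') (C c + lin (T.L c)) by rw [map_add, MvPolynomial.map_C, map_lin]]
      refine Set.mem_of_subset_of_mem (Ideal.map_le_iff_le_comap.2 fun p hp => ?_) h1
      exact Ideal.mem_map_of_mem _ (map_idealOfVars_le B' 2 (Ideal.mem_map_of_mem _ hp))
    set P := C (algebraMap B B' c) + lin (mapCoeff B' (T.L c))
    set R := C y + lin (L' y)
    have hprod : tr n (T.E n c) * E' n y - Ideal.Quotient.mk _ (P * R) ∈ J2 := by
      rw [map_mul, show tr n (T.E n c) * E' n y - Ideal.Quotient.mk _ P * Ideal.Quotient.mk _ R =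
        (tr n (T.E n c) - Ideal.Quotient.mk _ P) * E' n y + Ideal.Quotient.mk _ P * (E' n y - Ideal.Quotient.mk _ R) by ring]
      exact add_mem (Ideal.mul_mem_right _ _ hc) (Ideal.mul_mem_left _ _ hy)
    have hmem : Ideal.Quotient.mk _ (lin (mapCoeff B' (T.L c)) * lin (L' y)) ∈ J2 :=
      Ideal.mem_map_of_mem _ (by rw [pow_two]; exact Ideal.mul_mem_mul (lin_mem _) (lin_mem _))
    convert add_mem hprod hmem using 1
    simp only [P, R, map_add, map_mul, map_smul, MvPolynomial.smul_eq_C_mul]
    ring
  | add y z hy hz =>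
    convert add_mem hy hz using 1
    simp only [map_add]
    abel

theorem isDiffSmooth_descent [Module.FaithfullyFlat A A'] (h : IsDiffSmooth A' B')
    (hfin : Module.Finite B' (KaehlerDifferential A' B')) :
    IsDiffSmooth A B ∧ Module.Finite B (KaehlerDifferential A B) := by
  haveI : Algebra.IsPushout A A' B B' := Algebra.IsPushout.symm inferInstance
  haveI : Module.FaithfullyFlat B B' :=
    Module.FaithfullyFlat.of_linearEquiv B (B ⊗[A] A') (Algebra.IsPushout.equiv A B A' B').symm.toLinearEquiv
  let e : B' ⊗[B] KaehlerDifferential A B ≃ₗ[B'] KaehlerDifferential A' B' :=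
    KaehlerDifferential.tensorKaehlerEquiv A A' B B'
  haveI : Module.Finite B' (B' ⊗[B] KaehlerDifferential A B) := Module.Finite.equiv e.symm
  haveI : Module.Projective B' (B' ⊗[B] KaehlerDifferential A B) :=
    haveI := h.1; Module.Projective.of_equiv e.symm
  have hfinB : Module.Finite B (KaehlerDifferential A B) := Module.Finite.of_finite_tensorProduct_of_faithfullyFlat B'
  haveI : Module.Flat B (KaehlerDifferential A B) := Module.Flat.of_flat_tensorProduct B _ B'
  have hfp : Module.FinitePresentation B (KaehlerDifferential A B) := by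
    obtain ⟨n, π, hπ⟩ := Module.Finite.exists_fin' B (KaehlerDifferential A B)
    refine Module.finitePresentation_of_surjective π hπ ?_
    let K := LinearMap.ker π
    suffices Module.Finite B K from Module.Finite.iff_fg.1 this
    let ι := K.subtype.baseChange B'
    have hι : Function.Injective ι :=
      Module.Flat.lTensor_preserves_injective_linearMap (M := B') _ K.subtype_injective
    have hex : Function.Exact ι (π.baseChange B') := lTensor_exact B' (LinearMap.exact_subtype_ker_map π) hπ
    obtain ⟨s, hs⟩ := Module.projective_lifting_property (π.baseChange B') LinearMap.id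
      (LinearMap.lTensor_surjective B' hπ)
    have hs' : ∀ z, π.baseChange B' (s z) = z := fun z => LinearMap.congr_fun hs z
    let p : B' ⊗[B] (Fin n → B) →ₗ[B'] LinearMap.range ι :=
      (LinearMap.id - s.comp (π.baseChange B')).codRestrict _ fun z => (hex _).1 (by simp [hs'])
    haveI : Module.Finite B' (LinearMap.range ι) := Module.Finite.of_surjective p fun z => by
      refine ⟨z, Subtype.ext ?_⟩
      obtain ⟨w, hw⟩ := z.2
      show (z : B' ⊗[B] (Fin n → B)) - s (π.baseChange B' z) = z
      rw [← hw, hex.apply_apply_eq_zero, map_zero, sub_zero]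
    haveI : Module.Finite B' (B' ⊗[B] K) := Module.Finite.equiv (LinearEquiv.ofInjective ι hι).symm
    exact Module.Finite.of_finite_tensorProduct_of_faithfullyFlat B'
  have hproj : Module.Projective B (KaehlerDifferential A B) := Module.Flat.projective_of_finitePresentation
  refine ⟨(isDiffSmooth_iff A B).2 ⟨hproj, fun ι _ => ⟨?_, phi_surjective A B⟩⟩, hfinB⟩
  obtain ⟨s, hs⟩ := hproj.out
  obtain ⟨-, hφ⟩ := (isDiffSmooth_iff A' B').1 h
  let f' : KaehlerDifferential A' B' →ₗ[B'] (KaehlerDifferential A B →₀ B') :=
    (TensorProduct.AlgebraTensorModule.lift (LinearMap.toSpanSingleton B'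
      ((KaehlerDifferential A B) →ₗ[B] (KaehlerDifferential A B →₀ B')) ((mapCoeff B').comp s))) ∘ₗ e.symm.toLinearMap
  have hf' : ∀ x, f' (KaehlerDifferential.D A' B' (algebraMap B B' x)) = mapCoeff B' (s (KaehlerDifferential.D A B x)) := fun x => by
    have he : e.symm (KaehlerDifferential.D A' B' (algebraMap B B' x)) = 1 ⊗ₜ KaehlerDifferential.D A B x := by
      rw [LinearEquiv.symm_apply_eq]
      show _ = KaehlerDifferential.tensorKaehlerEquiv A A' B B' _
      rw [KaehlerDifferential.tensorKaehlerEquiv_tmul_D, one_smul]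
    show TensorProduct.AlgebraTensorModule.lift _ (e.symm _) = _
    rw [he]
    simp
  let J := KaehlerDifferential.ideal A B
  let J' := KaehlerDifferential.ideal A' B'
  have hpow : ∀ k, ∀ y ∈ J ^ k, tensorMap A B A' B' y ∈ J' ^ k := fun k y hy => by
    have := Ideal.mem_map_of_mem (tensorMap A B A' B') hy
    rw [Ideal.map_pow] at this
    exact Ideal.pow_right_mono (ideal_map_tensorMap_le A B A' B') k this
  -- transport a symmetric tensor
  have key : ∀ t : SymmetricPower B ι (KaehlerDifferential A B), ∃ t' : SymmetricPower B' ι (KaehlerDifferential A' B'),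
      symPoly f' t' = MvPolynomial.map (algebraMap B B') (symPoly s t) ∧
      ∀ x hx, phi A B t = cls A B _ x hx → ∀ hx', phi A' B' t' = cls A' B' _ (tensorMap A B A' B' x) hx' := by
    intro t
    have hsp := span_tprod_of_span (R := B) (ι := ι) (KaehlerDifferential.D A B) (span_D_eq_top A B)
    induction (hsp ▸ Submodule.mem_top : t ∈ Submodule.span B (Set.range fun b : ι → B =>
        SymmetricPower.tprod B fun i => KaehlerDifferential.D A B (b i))) using Submodule.span_induction with
    | mem t ht =>
      obtain ⟨b, rfl⟩ := ht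
      refine ⟨SymmetricPower.tprod B' fun i => KaehlerDifferential.D A' B' (algebraMap B B' (b i)), ?_,
        fun x hx hphi hx' => ?_⟩
      · rw [symPoly_tprod, symPoly_tprod, map_prod]
        exact Finset.prod_congr rfl fun i _ => by rw [hf', map_lin]
      · rw [phi_tprod_D] at hphi
        rw [phi_tprod_D A' B' fun i => algebraMap B B' (b i)]
        refine (cls_eq A' B').2 ?_
        have h1 := hpow _ _ ((cls_eq A B).1 hphi)
        rw [map_sub, map_prod] at h1
        simpa [tensorMap_tmul] using h1
    | zero =>
      refine ⟨0, by simp, fun x hx hphi hx' => ?_⟩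
      rw [map_zero] at hphi ⊢
      have h2 := hpow _ _ ((cls_eq A B (hx := zero_mem _)).1 hphi)
      rw [zero_sub, map_neg, neg_mem_iff] at h2
      exact ((cls_eq A' B' (hx := zero_mem _)).2 (by rw [zero_sub, neg_mem_iff]; exact h2))
    | add p q _ _ hp hq =>
      obtain ⟨p', hp1, hp2⟩ := hp
      obtain ⟨q', hq1, hq2⟩ := hq
      refine ⟨p' + q', by rw [map_add, map_add, map_add, hp1, hq1], fun x hx hphi hx' => ?_⟩
      obtain ⟨xp, hxp, hp3⟩ := cls_surjective A B (phi A B p)
      obtain ⟨xq, hxq, hq3⟩ := cls_surjective A B (phi A B q)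
      rw [map_add, ← hp3, ← hq3, cls_add] at hphi
      rw [map_add, hp2 xp hxp hp3.symm (hpow _ _ hxp), hq2 xq hxq hq3.symm (hpow _ _ hxq), cls_add]
      refine (cls_eq A' B').2 ?_
      have := hpow _ _ ((cls_eq A B).1 hphi)
      rwa [map_sub, map_add] at this
    | smul c p _ hp =>
      obtain ⟨p', hp1, hp2⟩ := hp
      refine ⟨algebraMap B B' c • p', ?_, fun x hx hphi hx' => ?_⟩
      · rw [map_smul, map_smul, hp1, MvPolynomial.smul_eq_C_mul, MvPolynomial.smul_eq_C_mul, map_mul, MvPolynomial.map_C]
      obtain ⟨xp, hxp, hp3⟩ := cls_surjective A B (phi A B p)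
      rw [map_smul, ← hp3, cls_smul] at hphi
      rw [map_smul, hp2 xp hxp hp3.symm (hpow _ _ hxp), cls_smul]
      refine (cls_eq A' B').2 ?_
      have := hpow _ _ ((cls_eq A B).1 hphi)
      rw [map_sub, map_mul] at this
      convert this using 2
      rw [Algebra.TensorProduct.algebraMap_apply, Algebra.TensorProduct.algebraMap_apply, tensorMap_tmul, map_one]
      rfl
  rw [injective_iff_map_eq_zero]
  intro t ht
  obtain ⟨t', ht1, ht2⟩ := key t
  have hx' : tensorMap A B A' B' 0 ∈ J' ^ Fintype.card ι := by rw [map_zero]; exact zero_mem _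
  have h0 := ht2 0 (zero_mem _) (ht.trans rfl) hx'
  have h0' : phi A' B' t' = 0 := h0.trans (by
    refine ((cls_eq A' B' (hy := zero_mem _)).2 ?_)
    rw [map_zero, sub_zero]; exact zero_mem _)
  rw [(hφ ι).1 (h0'.trans (map_zero _).symm), map_zero] at ht1
  refine symPoly_injective s (Finsupp.linearCombination B id) hs ?_
  rw [map_zero]
  refine MvPolynomial.map_injective _ (FaithfulSMul.algebraMap_injective B B') ?_
  rw [← ht1, map_zero]

end baseChange

end Groth.Agent.PrinParts.Sym
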